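import Mathlib

/-! Kernel-evaluated computation in finite groups: loops, words, coded actions. -/

set_option autoImplicit false

namespace Cfsg.Agent.CG

/-- `p` holds at `lo, lo+1, …, lo+cnt-1`. -/
noncomputable def allRange (p : ℕ → Bool) (lo cnt : ℕ) : Bool :=
  Nat.rec (motive := fun _ => Bool) true (fun i ih => Bool.rec false ih (p (Nat.add lo i))) cnt

/-- `p` holds below `n`. -/
noncomputable def allLt (p : ℕ → Bool) (n : ℕ) : Bool :=
  Nat.rec (motive := fun _ => Bool) true (fun i ih => Bool.rec false ih (p i)) n

/-- `p` holds on a list. -/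
noncomputable def allL {α : Type} (p : α → Bool) (l : List α) : Bool :=
  List.rec (motive := fun _ => Bool) true (fun a _ ih => Bool.rec false ih (p a)) l

/-- `p` holds somewhere on a list. -/
noncomputable def anyL {α : Type} (p : α → Bool) (l : List α) : Bool :=
  List.rec (motive := fun _ => Bool) false (fun a _ ih => Bool.rec ih true (p a)) l

/-- Lazy conjunction by the raw recursor. -/
noncomputable abbrev band (a b : Bool) : Bool := Bool.rec (motive := fun _ => Bool) false b a

/-- Lazy disjunction by the raw recursor. -/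
noncomputable abbrev bor (a b : Bool) : Bool := Bool.rec (motive := fun _ => Bool) b true a

/-- Negation by the raw recursor. -/
noncomputable abbrev bnot (a : Bool) : Bool := Bool.rec (motive := fun _ => Bool) true false a

theorem band_eq (a b : Bool) : band a b = true ↔ a = true ∧ b = true := by
  cases a <;> cases b <;> simp [band]

theorem bor_eq (a b : Bool) : bor a b = true ↔ a = true ∨ b = true := by
  cases a <;> cases b <;> simp [bor]

theorem bnot_eq (a : Bool) : bnot a = true ↔ a = false := by
  cases a <;> simp [bnot]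

theorem brec_eq (a b : Bool) :
    (Bool.rec (motive := fun _ => Bool) false b a) = true ↔ a = true ∧ b = true := band_eq a b

theorem allRange_iff (p : ℕ → Bool) (lo cnt : ℕ) :
    allRange p lo cnt = true ↔ ∀ i, lo ≤ i → i < lo + cnt → p i = true := by
  induction cnt with
  | zero => simp [allRange]; intro i h1 h2; omega
  | succ c ih =>
    have : allRange p lo (c + 1) = band (p (lo + c)) (allRange p lo c) := rfl
    rw [this, band_eq, ih]
    constructor
    · rintro ⟨h1, h2⟩ i hi hi'
      by_cases h : i = lo + c
      · rw [h]; exact h1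
      · exact h2 i hi (by omega)
    · intro h
      exact ⟨h _ (by omega) (by omega), fun i hi hi' => h i hi (by omega)⟩

theorem allLt_iff (p : ℕ → Bool) (n : ℕ) : allLt p n = true ↔ ∀ i, i < n → p i = true := by
  induction n with
  | zero => simp [allLt]
  | succ c ih =>
    have : allLt p (c + 1) = band (p c) (allLt p c) := rfl
    rw [this, band_eq, ih]
    constructor
    · rintro ⟨h1, h2⟩ i hi
      by_cases h : i = c
      · rw [h]; exact h1
      · exact h2 i (by omega)
    · intro h
      exact ⟨h _ (by omega), fun i hi => h i (by omega)⟩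

theorem allL_iff {α : Type} (p : α → Bool) (l : List α) : allL p l = true ↔ ∀ a ∈ l, p a = true := by
  induction l with
  | nil => simp [allL]
  | cons a l ih =>
    have : allL p (a :: l) = band (p a) (allL p l) := rfl
    rw [this, band_eq, ih]; simp

theorem anyL_iff {α : Type} (p : α → Bool) (l : List α) : anyL p l = true ↔ ∃ a ∈ l, p a = true := by
  induction l with
  | nil => simp [anyL]
  | cons a l ih =>
    have : anyL p (a :: l) = bor (p a) (anyL p l) := rfl
    rw [this, bor_eq, ih]; simp

/-- Gluing of checked ranges. -/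
theorem allRange_append {p : ℕ → Bool} {lo a b : ℕ} (h1 : allRange p lo a = true)
    (h2 : allRange p (lo + a) b = true) : allRange p lo (a + b) = true := by
  rw [allRange_iff] at *
  intro i hi hi'
  by_cases h : i < lo + a
  · exact h1 i hi h
  · exact h2 i (by omega) (by omega)

theorem allLt_of_allRange {p : ℕ → Bool} {n : ℕ} (h : allRange p 0 n = true) : allLt p n = true := by
  rw [allLt_iff]; rw [allRange_iff] at h
  intro i hi; exact h i (Nat.zero_le _) (by omega)

/-- Gluing of a prefix with a further range. -/
theorem allLt_append {p : ℕ → Bool} {a b : ℕ} (h1 : allLt p a = true)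
    (h2 : allRange p a b = true) : allLt p (a + b) = true := by
  rw [allLt_iff] at *; rw [allRange_iff] at h2
  intro i hi
  by_cases h : i < a
  · exact h1 i h
  · exact h2 i (by omega) hi

theorem beq_iff (a b : ℕ) : Nat.beq a b = true ↔ a = b := Nat.beq_eq ▸ Iff.rfl

theorem ble_iff (a b : ℕ) : Nat.ble a b = true ↔ a ≤ b := Nat.ble_eq ▸ Iff.rfl

/-- Strict comparison. -/
abbrev blt (a b : ℕ) : Bool := Nat.ble (Nat.succ a) b

theorem blt_iff (a b : ℕ) : blt a b = true ↔ a < b := by
  unfold blt; rw [ble_iff]; exact Iff.rfl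

theorem beq_false_iff (a b : ℕ) : Nat.beq a b = false ↔ a ≠ b := by
  rw [← Bool.not_eq_true, beq_iff]

/-- List lookup with a default, by raw recursors. -/
noncomputable def nth {α : Type} (l : List α) (d : α) (i : ℕ) : α :=
  List.rec (motive := fun _ => ℕ → α) (fun _ => d)
    (fun a _ ih i => Nat.rec (motive := fun _ => α) a (fun j _ => ih j) i) l i

theorem nth_eq {α : Type} (l : List α) (d : α) (i : ℕ) : nth l d i = l.getD i d := by
  induction l generalizing i with
  | nil => simp [nth]
  | cons a l ih =>
    cases i with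
    | zero => rfl
    | succ j => exact ih j

/-- Membership of a number in a list. -/
noncomputable def memL (a : ℕ) (l : List ℕ) : Bool := anyL (fun b => Nat.beq a b) l

theorem memL_iff (a : ℕ) (l : List ℕ) : memL a l = true ↔ a ∈ l := by
  unfold memL; rw [anyL_iff]; simp [beq_iff]

/-- Equality of lists of numbers. -/
noncomputable def eqL (l m : List ℕ) : Bool :=
  List.rec (motive := fun _ => List ℕ → Bool)
    (fun m => List.rec (motive := fun _ => Bool) true (fun _ _ _ => false) m)
    (fun a _ ih m => List.rec (motive := fun _ => Bool) false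
      (fun b m' _ => band (Nat.beq a b) (ih m')) m) l m

theorem eqL_iff (l m : List ℕ) : eqL l m = true ↔ l = m := by
  induction l generalizing m with
  | nil => cases m <;> simp [eqL]
  | cons a l ih =>
    cases m with
    | nil => simp [eqL]
    | cons b m =>
      have : eqL (a :: l) (b :: m) = band (Nat.beq a b) (eqL l m) := rfl
      rw [this, band_eq, ih, beq_iff]; simp

/-- Concatenation by the raw recursor. -/
noncomputable def app2 (l m : List ℕ) : List ℕ :=
  List.rec (motive := fun _ => List ℕ) m (fun a _ ih => a :: ih) l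

theorem app2_eq (l m : List ℕ) : app2 l m = l ++ m := by
  induction l with
  | nil => rfl
  | cons a l ih => exact congrArg (List.cons a) ih

/-! ### Words -/

/-- The value of a word. -/
def ev {G : Type*} [Monoid G] (gen : ℕ → G) (w : List ℕ) : G := (w.map gen).prod

section
variable {G : Type*} [Monoid G] (gen : ℕ → G)
@[simp] theorem ev_nil : ev gen [] = 1 := rfl
@[simp] theorem ev_cons (a : ℕ) (w : List ℕ) : ev gen (a :: w) = gen a * ev gen w := by simp [ev]
@[simp] theorem ev_append (v w : List ℕ) : ev gen (v ++ w) = ev gen v * ev gen w := by simp [ev]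
theorem ev_singleton (a : ℕ) : ev gen [a] = gen a := by simp

theorem map_ev {H : Type*} [Monoid H] (f : G →* H) (w : List ℕ) :
    f (ev gen w) = ev (fun a => f (gen a)) w := by
  induction w with
  | nil => simp
  | cons a w ih => simp [ih]

theorem ev_congr {gen' : ℕ → G} {w : List ℕ} (h : ∀ a ∈ w, gen a = gen' a) : ev gen w = ev gen' w := by
  induction w with
  | nil => rfl
  | cons a w ih =>
    rw [ev_cons, ev_cons, h a (by simp), ih (fun b hb => h b (by simp [hb]))]
end

theorem ev_mem {G : Type*} [Group G] (gen : ℕ → G) {H : Subgroup G} {w : List ℕ}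
    (h : ∀ a ∈ w, gen a ∈ H) : ev gen w ∈ H := by
  induction w with
  | nil => exact H.one_mem
  | cons a w ih =>
    rw [ev_cons]
    exact H.mul_mem (h a (by simp)) (ih fun b hb => h b (by simp [hb]))

/-- The subgroup generated by the letters of a list. -/
def cl {G : Type*} [Group G] (gen : ℕ → G) (S : List ℕ) : Subgroup G :=
  Subgroup.closure (gen '' {a | a ∈ S})

theorem gen_mem_cl {G : Type*} [Group G] (gen : ℕ → G) {S : List ℕ} {a : ℕ} (h : a ∈ S) :
    gen a ∈ cl gen S := Subgroup.subset_closure ⟨a, h, rfl⟩

theorem cl_le {G : Type*} [Group G] (gen : ℕ → G) {S : List ℕ} {H : Subgroup G}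
    (h : ∀ a ∈ S, gen a ∈ H) : cl gen S ≤ H := by
  unfold cl; rw [Subgroup.closure_le]; rintro _ ⟨a, ha, rfl⟩; exact h a ha

theorem cl_mono {G : Type*} [Group G] (gen : ℕ → G) {S T : List ℕ} (h : ∀ a ∈ S, a ∈ T) :
    cl gen S ≤ cl gen T := cl_le gen fun a ha => gen_mem_cl gen (h a ha)

theorem cl_nil {G : Type*} [Group G] (gen : ℕ → G) : cl gen [] = ⊥ := by
  simp [cl]

theorem map_cl {G H : Type*} [Group G] [Group H] (gen : ℕ → G) (f : G →* H) (S : List ℕ) :
    (cl gen S).map f = cl (fun a => f (gen a)) S := by
  unfold cl; rw [MonoidHom.map_closure, Set.image_image]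

/-- A word applied to a coded point (rightmost letter first). -/
noncomputable def evp (app : ℕ → ℕ → ℕ) (w : List ℕ) (x : ℕ) : ℕ :=
  List.rec (motive := fun _ => ℕ) x (fun a _ ih => app a ih) w

@[simp] theorem evp_nil (app : ℕ → ℕ → ℕ) (x : ℕ) : evp app [] x = x := rfl
@[simp] theorem evp_cons (app : ℕ → ℕ → ℕ) (a : ℕ) (w : List ℕ) (x : ℕ) :
    evp app (a :: w) x = app a (evp app w x) := rfl

/-- A group action in code: letters name group elements, numbers satisfying `ok` name points, and `app` computes the
action of a letter on a point. -/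
structure Act (G X : Type*) [Group G] [MulAction G X] where
  gen : ℕ → G
  app : ℕ → ℕ → ℕ
  ok : ℕ → Prop
  pt : ℕ → X
  ok_app : ∀ a x, ok x → ok (app a x)
  smul_pt : ∀ a x, ok x → gen a • pt x = pt (app a x)
  inj : ∀ x y, ok x → ok y → pt x = pt y → x = y

namespace Act
variable {G X : Type*} [Group G] [MulAction G X] (A : Act G X)

theorem ok_evp (w : List ℕ) {x : ℕ} (hx : A.ok x) : A.ok (evp A.app w x) := by
  induction w with
  | nil => exact hx
  | cons a w ih => exact A.ok_app a _ ih

theorem ev_smul (w : List ℕ) {x : ℕ} (hx : A.ok x) : ev A.gen w • A.pt x = A.pt (evp A.app w x) := by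
  induction w with
  | nil => simp
  | cons a w ih => rw [ev_cons, mul_smul, ih, A.smul_pt a _ (A.ok_evp w hx), evp_cons]

/-- `B` is a base: a list of points whose pointwise stabiliser is trivial. -/
def IsBase (B : List ℕ) : Prop :=
  (∀ b ∈ B, A.ok b) ∧ ∀ g : G, (∀ b ∈ B, g • A.pt b = A.pt b) → g = 1

theorem IsBase.eq {A : Act G X} {B : List ℕ} (hB : A.IsBase B) {g h : G}
    (H : ∀ b ∈ B, g • A.pt b = h • A.pt b) : g = h := by
  have := hB.2 (h⁻¹ * g) (fun b hb => by rw [mul_smul, H b hb, inv_smul_smul])
  exact (inv_mul_eq_one.1 this).symm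
end Act

/-- Two words agree on the points of `B`. -/
noncomputable def eqW (app : ℕ → ℕ → ℕ) (B : List ℕ) (v w : List ℕ) : Bool :=
  allL (fun b => Nat.beq (evp app v b) (evp app w b)) B

theorem Act.IsBase.ev_eq {G X : Type*} [Group G] [MulAction G X] {A : Act G X} {B : List ℕ}
    (hB : A.IsBase B) {v w : List ℕ} (h : eqW A.app B v w = true) : ev A.gen v = ev A.gen w := by
  apply hB.eq
  intro b hb
  unfold eqW at h
  rw [allL_iff] at h
  have := (beq_iff _ _).1 (h b hb)
  rw [A.ev_smul v (hB.1 b hb), A.ev_smul w (hB.1 b hb), this]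

/-- Two words differ if they differ at a point. -/
theorem Act.ev_ne {G X : Type*} [Group G] [MulAction G X] (A : Act G X) {v w : List ℕ} {x : ℕ}
    (hx : A.ok x) (h : evp A.app v x ≠ evp A.app w x) : ev A.gen v ≠ ev A.gen w := by
  intro e
  apply h
  apply A.inj _ _ (A.ok_evp v hx) (A.ok_evp w hx)
  rw [← A.ev_smul v hx, ← A.ev_smul w hx, e]

end Cfsg.Agent.CG
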