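import Cfsg.Agent.Lib.CG.Glue2

/-! Two-level tables for large degrees; class enumeration modulo a cyclic group with a fixed point. -/

set_option autoImplicit false

namespace Cfsg.Agent.CG

/-- The mask of a piece: `4096 + 64` bits. -/
noncomputable def pieceMask : ℕ := Nat.sub (Nat.pow 2 4160) 1

/-- Piece number `j` (bits from `4096 * j` on) of a table stored in blocks of `65536 (+ 64)` bits. -/
noncomputable def piece (t : Tr ℕ) (j : ℕ) : ℕ :=
  force (Nat.shiftRight j 4) fun m =>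
    Nat.land (Nat.shiftRight (t.get m) (Nat.shiftLeft (Nat.land j 15) 12)) pieceMask

/-- Lookup at bit position `x` in a table stored in blocks. -/
noncomputable def lk2 (t : Tr ℕ) (M x : ℕ) : ℕ :=
  Nat.rec (motive := fun _ => ℕ) (Nat.land (Nat.shiftRight (piece t 0) x) M)
    (fun j _ => Nat.land (Nat.shiftRight (piece t (Nat.succ j)) (Nat.land x 4095)) M) (Nat.shiftRight x 12)

/-- The action of letters through a list of tables stored in blocks. -/
noncomputable def appB (tabs : List (Tr ℕ)) (d : Tr ℕ) (M : ℕ) (a x : ℕ) : ℕ :=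
  Nat.rec (motive := fun _ => ℕ) (Nat.land (Nat.shiftRight (piece (nth tabs d a) 0) x) M)
    (fun j _ => Nat.land (Nat.shiftRight (piece (nth tabs d a) (Nat.succ j)) (Nat.land x 4095)) M)
    (Nat.shiftRight x 12)

theorem appB_triv {tabs : List (Tr ℕ)} {d : Tr ℕ} {M k : ℕ} (h : Nat.ble tabs.length k = true) :
    ∀ a, k ≤ a → appB tabs d M a = appB tabs d M k := by
  intro a ha
  rw [ble_iff] at h
  funext x
  unfold appB
  rw [nth_triv tabs d h, nth_triv tabs d (le_trans h ha)]

/-- The letters of all levels lie in `lo ≤ a < lo + cnt`. -/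
noncomputable def chainRange (lo cnt : ℕ) (L : List Lvl) : Bool :=
  allL (fun l => allL (fun a => band (Nat.ble lo a) (blt a (Nat.add lo cnt))) l.S) L

/-- Generation from a chain whose letters are words in `T`. -/
theorem TabOK.cl_eq_top_of_chain {n w : ℕ} [NeZero n] {app : ℕ → ℕ → ℕ} {r k : ℕ} {partner : ℕ → ℕ}
    {slp : ℕ → Bool × List ℕ} (h : TabOK n w app r k partner slp) {T : List ℕ} {lo cnt : ℕ} (h1 : r ≤ lo)
    (h2 : lo + cnt ≤ k) (hs : slpIn slp T lo cnt = true) {L : List Lvl} (hC : ChainOK h.act L [])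
    (hN : Nat.card (tabGroup n w app r) ≤ prodN L) (h3 : chainRange lo cnt L = true) : cl h.act.gen T = ⊤ := by
  apply Subgroup.eq_top_of_le_card
  refine le_trans hN (hC.prodN_le_card_of_mem fun l hl a ha => ?_)
  have := (allL_iff _ _).1 ((allL_iff _ _).1 h3 l hl) a ha
  rw [band_eq, ble_iff, blt_iff] at this
  exact h.mem_cl_of_slpIn h1 h2 hs a this.1 this.2

/-- The offsets along the cycles of the letter `a` of order `p`; offsets `≥ p` mark the other points. -/
noncomputable def offChk (w : ℕ) (app : ℕ → ℕ → ℕ) (a p : ℕ) (off : ℕ → ℕ) (lo cnt : ℕ) : Bool :=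
  allRange (fun i => force (Nat.mul w i) fun x => force (off x) fun o =>
    Bool.rec (motive := fun _ => Bool) (Nat.beq (off (app a x)) (Nat.mod (Nat.succ o) p))
      (Nat.ble p (off (app a x))) (Nat.ble p o)) lo cnt

theorem offChk_append {w : ℕ} {app : ℕ → ℕ → ℕ} {a p : ℕ} {off : ℕ → ℕ} {lo c d : ℕ}
    (h1 : offChk w app a p off lo c = true) (h2 : offChk w app a p off (lo + c) d = true) :
    offChk w app a p off lo (c + d) = true := allRange_append h1 h2

/-- What `offChk` says. -/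
def OffOK (ok : ℕ → Prop) (f : ℕ → ℕ) (p : ℕ) (off : ℕ → ℕ) : Prop :=
  ∀ x, ok x → (off x < p → off (f x) = (off x + 1) % p) ∧ (p ≤ off x → p ≤ off (f x))

theorem offOK_of_chk {n w : ℕ} {app : ℕ → ℕ → ℕ} {a p : ℕ} {off : ℕ → ℕ} (h : offChk w app a p off 0 n = true) :
    OffOK (okc n w) (app a) p off := by
  rintro x ⟨j, hj, rfl⟩
  have := (allRange_iff _ _ _).1 h j (Nat.zero_le _) (by omega)
  rw [force_eq, force_eq] at this
  have e : Nat.mul w j = w * j := rfl
  rw [e] at this
  cases hb : Nat.ble p (off (w * j))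
  · rw [hb] at this
    have h1 : ¬ p ≤ off (w * j) := by rw [← ble_iff, hb]; simp
    exact ⟨fun _ => (beq_iff _ _).1 this, fun h => absurd h h1⟩
  · rw [hb] at this
    have h1 : p ≤ off (w * j) := (ble_iff _ _).1 hb
    exact ⟨fun h => by omega, fun _ => (ble_iff _ _).1 this⟩

/-- The test for representatives: the image of `y` has offset zero. -/
noncomputable def tst0 (off : ℕ → ℕ) (y : ℕ) (test : (ℕ → ℕ) → Bool) (f : ℕ → ℕ) : Bool :=
  band (Nat.beq (off (f y)) 0) (test f)

/-- The test for the remaining elements: the image of `y` is marked. -/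
noncomputable def tst1 (off : ℕ → ℕ) (y p : ℕ) (test : (ℕ → ℕ) → Bool) (f : ℕ → ℕ) : Bool :=
  band (Nat.ble p (off (f y))) (test f)

section
variable {G X : Type*} [Group G] [MulAction G X] {A : Act G X}

theorem Act.rep_pow (a k : ℕ) : A.Rep (A.gen a ^ k) ((A.app a)^[k]) := by
  induction k with
  | zero => rw [pow_zero]; exact A.rep_id
  | succ k ih =>
    rw [pow_succ', Function.iterate_succ']
    exact (A.rep_gen a).comp ih

theorem OffOK.iter {a p : ℕ} {off : ℕ → ℕ} (h : OffOK A.ok (A.app a) p off) {x : ℕ} (hx : A.ok x)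
    (h0 : off x = 0) (hp : 0 < p) (k : ℕ) : off ((A.app a)^[k] x) = k % p := by
  induction k with
  | zero => simpa using h0
  | succ k ih =>
    rw [Function.iterate_succ_apply']
    have h1 := (h _ ((A.rep_pow a k) x hx).1).1 (by rw [ih]; exact Nat.mod_lt _ hp)
    rw [h1, ih, Nat.mod_add_mod]

/-- Every conjugate of `t` is conjugate under a power of `a` to one that passes the test. -/
theorem Enum.OK.all2 [Finite G] {E E' : Enum} {test : (ℕ → ℕ) → Bool} {N kl kh N' kl' kh' c0 a p y : ℕ}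
    {off : ℕ → ℕ} (h : E.OK A.app (tst0 off y test) 0 N kl kh) (h' : E'.OK A.app (tst1 off y p test) 0 N' kl' kh')
    (ht : E'.t = E.t) (hinv : ∀ a, A.gen (E.inv a) = (A.gen a)⁻¹) (hinv' : ∀ a, A.gen (E'.inv a) = (A.gen a)⁻¹)
    (hY : ∀ y ∈ E.Y, A.ok y) (hY' : ∀ y ∈ E'.Y, A.ok y) (hy : A.ok y) (hfix : A.app a y = y) (hp : 0 < p)
    (hoff : OffOK A.ok (A.app a) p off)
    (hc : c0 ≤ Nat.card (Subgroup.centralizer {A.gen E.t})) (hN : Nat.card G ≤ (p * N + N') * c0) (g : G) :
    ∃ k : ℕ, ∃ f, A.Rep ((A.gen a ^ k)⁻¹ * (g * A.gen E.t * g⁻¹) * A.gen a ^ k) f ∧ test f = true := by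
  obtain ⟨u, hu, hu2⟩ := h.exists_inj hinv hY
  obtain ⟨u', hu', hu2'⟩ := h'.exists_inj hinv' hY'
  rw [ht] at hu' hu2'
  set t := A.gen E.t
  have hm : ∀ i : Fin N, off (E.fn A.app i y) = 0 ∧ test (E.fn A.app i) = true := fun i => by
    have := (h.mem i (Nat.zero_le _) (by simp)).2.2
    unfold tst0 at this
    rwa [band_eq, beq_iff] at this
  have hm' : ∀ i : Fin N', p ≤ off (E'.fn A.app i y) ∧ test (E'.fn A.app i) = true := fun i => by
    have := (h'.mem i (Nat.zero_le _) (by simp)).2.2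
    unfold tst1 at this
    rwa [band_eq, ble_iff] at this
  have hco : ∀ v w : G, (v : G ⧸ Subgroup.centralizer {t}) = w ↔ v * t * v⁻¹ = w * t * w⁻¹ := by
    intro v w
    rw [QuotientGroup.eq, Subgroup.mem_centralizer_singleton_iff]
    constructor
    · intro h1
      calc v * t * v⁻¹ = v * (t * (v⁻¹ * w)) * w⁻¹ := by group
        _ = _ := by rw [← h1]; group
    · intro h1
      calc v⁻¹ * w * t = v⁻¹ * (w * t * w⁻¹) * w := by group
        _ = _ := by rw [← h1]; group
  have hfx : ∀ k : ℕ, (A.gen a ^ k)⁻¹ • A.pt y = A.pt y := by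
    intro k
    rw [inv_smul_eq_iff]
    have := ((A.rep_pow a k) y hy).2
    rw [this, Function.iterate_fixed hfix]
  have hpt : ∀ (k : ℕ) (i : Fin N), ((A.gen a ^ k * u i) * t * (A.gen a ^ k * u i)⁻¹) • A.pt y =
      A.pt ((A.app a)^[k] (E.fn A.app i y)) := by
    intro k i
    have e : (A.gen a ^ k * u i) * t * (A.gen a ^ k * u i)⁻¹ =
      A.gen a ^ k * ((u i * t * (u i)⁻¹) * (A.gen a ^ k)⁻¹) := by group
    rw [e, mul_smul, mul_smul, hfx, (hu2 i y hy).2, ((A.rep_pow a k) _ (hu2 i y hy).1).2]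
  have hok : ∀ (k : ℕ) (i : Fin N), A.ok ((A.app a)^[k] (E.fn A.app i y)) :=
    fun k i => ((A.rep_pow a k) _ (hu2 i y hy).1).1
  have hof : ∀ (k : Fin p) (i : Fin N), off ((A.app a)^[k] (E.fn A.app i y)) = k := fun k i => by
    rw [hoff.iter (hu2 i y hy).1 (hm i).1 hp, Nat.mod_eq_of_lt k.2]
  let U : (Fin p × Fin N) ⊕ Fin N' → G := Sum.elim (fun q => A.gen a ^ (q.1 : ℕ) * u q.2) u'
  have hmix : ∀ (k : Fin p) (i : Fin N) (j : Fin N'),
      ((A.gen a ^ (k : ℕ) * u i : G) : G ⧸ Subgroup.centralizer {t}) ≠ u' j := by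
    intro k i j e
    rw [hco] at e
    have h1 := hpt k i
    rw [e, (hu2' j y hy).2] at h1
    have h2 := A.inj _ _ (hu2' j y hy).1 (hok k i) h1
    have h3 := (hm' j).1
    rw [h2, hof] at h3
    exact absurd k.2 (by omega)
  have hU : Function.Injective fun q => (U q : G ⧸ Subgroup.centralizer {t}) := by
    rintro (⟨k, i⟩ | j) (⟨l, i'⟩ | j') e
    · have e : ((A.gen a ^ (k : ℕ) * u i : G) : G ⧸ Subgroup.centralizer {t}) = (A.gen a ^ (l : ℕ) * u i' : G) := e
      have e' := (hco _ _).1 e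
      have h1 := hpt k i
      rw [e', hpt] at h1
      have h2 := congrArg off (A.inj _ _ (hok l i') (hok k i) h1)
      rw [hof, hof] at h2
      have h3 : k = l := Fin.ext h2.symm
      subst h3
      have h4 : (u i : G ⧸ Subgroup.centralizer {t}) = u i' := by
        rw [QuotientGroup.eq] at e ⊢
        simpa [mul_assoc] using e
      rw [hu h4]
    · exact absurd e (hmix k i j')
    · exact absurd e.symm (hmix l i' j)
    · have e : (u' j : G ⧸ Subgroup.centralizer {t}) = u' j' := e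
      rw [hu' e]
  have hb : Function.Bijective fun q => (U q : G ⧸ Subgroup.centralizer {t}) := by
    apply (Nat.bijective_iff_injective_and_card _).2
    refine ⟨hU, le_antisymm (Nat.card_le_card_of_injective _ hU) ?_⟩
    rw [Subgroup.card_eq_card_quotient_mul_card_subgroup (Subgroup.centralizer {t})] at hN
    have := le_trans hN (Nat.mul_le_mul_left _ hc)
    simpa using Nat.le_of_mul_le_mul_right this Nat.card_pos
  obtain ⟨q, hq⟩ := hb.2 (g : G ⧸ Subgroup.centralizer {t})
  have hq := (hco _ _).1 hq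
  rcases q with ⟨k, i⟩ | j
  · refine ⟨k, _, ?_, (hm i).2⟩
    have hq : (A.gen a ^ (k : ℕ) * u i) * t * (A.gen a ^ (k : ℕ) * u i)⁻¹ = g * t * g⁻¹ := hq
    have : (A.gen a ^ (k : ℕ))⁻¹ * (g * t * g⁻¹) * A.gen a ^ (k : ℕ) = u i * t * (u i)⁻¹ := by
      rw [← hq]; group
    rw [this]; exact hu2 i
  · refine ⟨0, _, ?_, (hm' j).2⟩
    have hq : u' j * t * (u' j)⁻¹ = g * t * g⁻¹ := hq
    simp only [pow_zero, inv_one, one_mul, mul_one]
    rw [← hq]; exact hu2' j

theorem aut_pair2 {B : List ℕ} (hB : A.IsBase B) {a t : ℕ} {AK : List ℕ} {T2 : List (List ℕ × ℕ)}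
    {Sig : List (ℕ × ℕ)} {U : List (List ℕ)} (hrel : relChk A.app B a t T2 = true)
    (hok : ∀ y ∈ T2.map Prod.snd, A.ok y) (hcomm : allL (fun a' => eqW A.app B [a, a'] [a', a]) AK = true)
    (hA : ∀ φ : MulAut G, ∃ g : G, ∃ a' ∈ AK, g * φ (A.gen a) * g⁻¹ = A.gen a')
    (hT : ∀ φ : MulAut G, ∃ g : G, φ (A.gen t) = g * A.gen t * g⁻¹)
    (hall : ∀ g : G, ∃ k : ℕ, ∃ f, A.Rep ((A.gen a ^ k)⁻¹ * (g * A.gen t * g⁻¹) * A.gen a ^ k) f ∧
      outTest A.app B AK T2 Sig U f = true) (φ : MulAut G) :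
    ∃ s ∈ Sig, ∃ g : G, φ (A.gen a) = g * A.gen s.1 * g⁻¹ ∧ φ (A.gen t) = g * A.gen s.2 * g⁻¹ := by
  obtain ⟨g0, a', ha', e0⟩ := hA φ
  obtain ⟨h, e2⟩ := hT φ
  obtain ⟨k, f, hf, ht⟩ := hall (g0 * h)
  have hc : Commute (A.gen a) (A.gen a') := by
    have := hB.ev_eq ((allL_iff _ _).1 hcomm a' ha')
    show A.gen a * A.gen a' = A.gen a' * A.gen a
    simpa using this
  set g := (A.gen a ^ k)⁻¹ * g0 with hg
  have e1 : g * φ (A.gen a) * g⁻¹ = A.gen a' := by
    have c := (hc.pow_left k).eq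
    calc g * φ (A.gen a) * g⁻¹ = (A.gen a ^ k)⁻¹ * (g0 * φ (A.gen a) * g0⁻¹ * A.gen a ^ k) := by rw [hg]; group
      _ = _ := by rw [e0, ← c]; group
  have e3 : (A.gen a ^ k)⁻¹ * (g0 * h * A.gen t * (g0 * h)⁻¹) * A.gen a ^ k = g * φ (A.gen t) * g⁻¹ := by
    rw [e2, hg]; group
  rw [e3] at hf
  unfold outTest at ht
  rw [allL_iff] at ht
  have ht := ht a' ha'
  rw [bor_eq, anyL_iff, anyL_iff] at ht
  rcases ht with ⟨q, hq, ht⟩ | ⟨s, hs, ht⟩
  · exfalso
    rw [bnot_eq, beq_false_iff] at ht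
    refine (rep_ev2 (A.rep_gen a') hf q.1).ne A.rep_id (hok _ (List.mem_map_of_mem hq)) ht ?_
    unfold relChk at hrel
    rw [allL_iff] at hrel
    have := hB.ev_eq (hrel q hq)
    rw [ev_inst2, ev_nil] at this
    have c := conj_ev2 ((MulAut.conj g).toMonoidHom.comp φ.toMonoidHom) (A.gen a) (A.gen t) q.1
    rw [this, map_one] at c
    rw [← e1]; exact c.symm
  · rw [anyL_iff] at ht
    obtain ⟨u, -, ht⟩ := ht
    rw [band_eq, allL_iff] at ht
    have c1 := hB.ev_eq ht.1
    rw [app2_eq, ev_append, ev_cons, ev_cons, ev_nil, mul_one, ← e1] at c1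
    have c2 := Act.Rep.eq_of_base hB (hf.comp (A.rep_ev u)) ((A.rep_ev u).comp (A.rep_gen s.2))
      (fun b hb => (beq_iff _ _).1 (ht.2 b hb))
    refine ⟨s, hs, g⁻¹ * ev A.gen u, ?_, ?_⟩
    · calc φ (A.gen a) = g⁻¹ * (g * φ (A.gen a) * g⁻¹ * ev A.gen u) * (ev A.gen u)⁻¹ * g := by group
        _ = _ := by rw [c1]; group
    · calc φ (A.gen t) = g⁻¹ * (g * φ (A.gen t) * g⁻¹ * ev A.gen u) * (ev A.gen u)⁻¹ * g := by group
        _ = _ := by rw [c2]; group

end

/-- The words `img` follow the definitions of the letters `lo ≤ a < lo + cnt`. -/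
noncomputable def slpImg (app : ℕ → ℕ → ℕ) (B : List ℕ) (slp : ℕ → Bool × List ℕ) (img : ℕ → List ℕ) (lo cnt : ℕ) :
    Bool :=
  allRange (fun a => Bool.rec (motive := fun _ => Bool) (eqW app B (img a) (substW img (slp a).2))
    (eqW app B (app2 (img a) (substW img (slp a).2)) []) (slp a).1) lo cnt

theorem slpImg_append {app : ℕ → ℕ → ℕ} {B : List ℕ} {slp : ℕ → Bool × List ℕ} {img : ℕ → List ℕ} {lo c d : ℕ}
    (h1 : slpImg app B slp img lo c = true) (h2 : slpImg app B slp img (lo + c) d = true) :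
    slpImg app B slp img lo (c + d) = true := allRange_append h1 h2

theorem TabOK.clS {n w : ℕ} [NeZero n] {app : ℕ → ℕ → ℕ} {r k : ℕ} {partner : ℕ → ℕ}
    {slp : ℕ → Bool × List ℕ} (h : TabOK n w app r k partner slp) {S : List ℕ} (hS : eqL S (rangeL 0 r) = true) :
    cl h.act.gen S = ⊤ := by
  rw [eq_top_iff, ← h.cl_eq_top, (eqL_iff _ _).1 hS]
  apply cl_le
  intro i hi
  exact gen_mem_cl _ (mem_rangeL (Nat.zero_le _) (by simpa using hi))

/-- An automorphism from a presentation on the basic letters. -/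
theorem TabOK.exists_aut_slp {n w : ℕ} [NeZero n] {app : ℕ → ℕ → ℕ} {r k : ℕ} {partner : ℕ → ℕ}
    {slp : ℕ → Bool × List ℕ} (h : TabOK n w app r k partner slp) {B : List ℕ} (hB : h.act.IsBase B)
    {R : List (List ℕ)} {S : List ℕ} {N : ℕ} (hb : Bounds R S N) (hG : ∀ v ∈ R, ev h.act.gen v = 1)
    (hS : eqL S (rangeL 0 r) = true) (hN : N ≤ Nat.card (tabGroup n w app r)) {img : ℕ → List ℕ}
    (hR : allL (fun v => eqW app B (substW img v) []) R = true) {c : ℕ} (hk : r + c ≤ k)
    (hslp : slpImg app B slp img r c = true) {a t x y : ℕ} (ha : a < r + c) (ht : t < r + c)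
    (hat : cl h.act.gen [a, t] = ⊤) {va vt : List ℕ} (hv : allL (ltAll (r + c)) [va, vt] = true)
    (hc : allL (fun p : List ℕ × List ℕ => eqW app B p.1 p.2) [(substW img va, [a]), (substW img vt, [t]),
      (img a, [x]), (img t, [y])] = true) :
    ∃ σ : MulAut (tabGroup n w app r), σ (h.act.gen a) = h.act.gen x ∧ σ (h.act.gen t) = h.act.gen y := by
  rw [allL_iff] at hR hc hv
  obtain ⟨f, hf⟩ := hb.lift hG (h.clS hS) hN (fun a => ev h.act.gen (img a))
    (fun v hv => by rw [← ev_substW]; exact hB.ev_eq (hR v hv))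
  have key0 : ∀ v : List ℕ, (∀ s ∈ v, f (h.act.gen s) = ev h.act.gen (img s)) →
      f (ev h.act.gen v) = ev h.act.gen (substW img v) := by
    intro v hv
    rw [map_ev, ev_substW]
    exact ev_congr _ hv
  have key : ∀ s, s < r + c → f (h.act.gen s) = ev h.act.gen (img s) := by
    intro s
    induction s using Nat.strong_induction_on with
    | _ s ih =>
      intro hs
      by_cases h1 : s < r
      · exact hf s ((eqL_iff _ _).1 hS ▸ mem_rangeL (Nat.zero_le _) (by omega))
      · have hlt : ∀ b ∈ (slp s).2, b < s := by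
          have := (allRange_iff _ _ _).1 h.lt s (by omega) (by omega)
          unfold ltAll at this
          rw [allL_iff] at this
          exact fun b hb => (blt_iff _ _).1 (this b hb)
        have h2 := key0 (slp s).2 fun b hb => ih b (hlt b hb) (by have := hlt b hb; omega)
        have h3 := (allRange_iff _ _ _).1 hslp s (by omega) hs
        rw [h.gen_slp (by omega) (by omega)]
        cases hb : (slp s).1
        · rw [hb] at h3
          have h4 : ev h.act.gen (img s) = ev h.act.gen (substW img (slp s).2) := hB.ev_eq h3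
          simp [h2, h4]
        · rw [hb] at h3
          have h4 : ev h.act.gen (app2 (img s) (substW img (slp s).2)) = ev h.act.gen [] := hB.ev_eq h3
          rw [app2_eq, ev_append, ev_nil] at h4
          simp [h2, eq_inv_of_mul_eq_one_left h4]
  have key2 : ∀ v ∈ [va, vt], f (ev h.act.gen v) = ev h.act.gen (substW img v) := fun v hv' => key0 v fun s hs => by
    have := hv v hv'
    unfold ltAll at this
    exact key s ((blt_iff _ _).1 ((allL_iff _ _).1 this s hs))
  have e1 : ev h.act.gen (substW img va) = ev h.act.gen [a] := hB.ev_eq (hc (substW img va, [a]) (by simp))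
  have e2 : ev h.act.gen (substW img vt) = ev h.act.gen [t] := hB.ev_eq (hc (substW img vt, [t]) (by simp))
  have e3 : ev h.act.gen (img a) = ev h.act.gen [x] := hB.ev_eq (hc (img a, [x]) (by simp))
  have e4 : ev h.act.gen (img t) = ev h.act.gen [y] := hB.ev_eq (hc (img t, [y]) (by simp))
  simp only [ev_singleton] at e1 e2 e3 e4
  have hsurj : Function.Surjective f := by
    rw [← MonoidHom.range_eq_top, eq_top_iff, ← hat]
    apply cl_le
    intro s hs
    simp only [List.mem_cons, List.not_mem_nil, or_false] at hs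
    rcases hs with rfl | rfl
    · exact ⟨_, by rw [key2 va (by simp), e1]⟩
    · exact ⟨_, by rw [key2 vt (by simp), e2]⟩
  exact ⟨MulEquiv.ofBijective f (Finite.surjective_iff_bijective.1 hsurj), (key a ha).trans e3, (key t ht).trans e4⟩

end Cfsg.Agent.CG
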