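import Cfsg.Agent.Lib.CG.Big

/-! Non-conjugacy of pairs by fixed points. -/

set_option autoImplicit false

namespace Cfsg.Agent.CG

/-- Joining two range checks, with the arithmetic done on the side. -/
theorem rapp (P : ℕ → ℕ → Bool) (happ : ∀ lo c d, P lo c = true → P (lo + c) d = true → P lo (c + d) = true)
    {lo c m d : ℕ} (e : ℕ) (h1 : P lo c = true) (h2 : P m d = true) (e1 : Nat.beq (Nat.add lo c) m = true)
    (e2 : Nat.beq (Nat.add c d) e = true) : P lo e = true := by
  have e1 : lo + c = m := (beq_iff _ _).1 e1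
  have e2 : c + d = e := (beq_iff _ _).1 e2
  subst e1 e2
  exact happ _ _ _ h1 h2

/-- A word moves the points `lo ≤ j < lo + cnt`. -/
noncomputable def moveAll (w : ℕ) (app : ℕ → ℕ → ℕ) (u : List ℕ) (lo cnt : ℕ) : Bool :=
  comp app u fun f => allRange (fun j => bnot (Nat.beq (f (Nat.mul w j)) (Nat.mul w j))) lo cnt

theorem moveAll_append {w : ℕ} {app : ℕ → ℕ → ℕ} {u : List ℕ} {lo c d : ℕ} (h1 : moveAll w app u lo c = true)
    (h2 : moveAll w app u (lo + c) d = true) : moveAll w app u lo (c + d) = true := by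
  unfold moveAll at *
  rw [comp_eq] at *
  exact allRange_append h1 h2

variable {n w : ℕ} [NeZero n] {app : ℕ → ℕ → ℕ} {r k : ℕ} {partner : ℕ → ℕ} {slp : ℕ → Bool × List ℕ}

theorem TabOK.smul_ne_of_moveAll (h : TabOK n w app r k partner slp) {u : List ℕ}
    (e : moveAll w app u 0 n = true) (j : Fin n) : ev h.act.gen u • j ≠ j := by
  unfold moveAll at e
  rw [comp_eq, allRange_iff] at e
  have e1 := e j (Nat.zero_le _) (by simp)
  rw [bnot_eq, beq_false_iff] at e1
  intro e2
  apply e1
  have h1 := h.act.ev_smul u (x := w * j) (okc_mul j)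
  have h3 : h.act.pt (w * j) = j := ptc_mul' h.w_pos j
  refine h.act.inj _ _ (h.act.ok_evp u (okc_mul j)) (okc_mul j) ?_
  exact h1.symm.trans (by rw [h3, e2]; exact h3.symm)

/-- No element conjugates `(a, t)` to `(x, y)`: the word `v` has a fixed point at the first pair only. -/
theorem TabOK.not_conj_fix (h : TabOK n w app r k partner slp) {a t x y : ℕ} {v : List ℕ} {z : ℕ}
    (hz : okcb n w [z] = true) (h0 : Nat.beq (evp app (inst2 a t v) z) z = true)
    (e : moveAll w app (inst2 x y v) 0 n = true) (g : tabGroup n w app r)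
    (h1 : g * h.act.gen a = h.act.gen x * g) (h2 : g * h.act.gen t = h.act.gen y * g) : False := by
  have hz' : h.act.ok z := okc_of_okcb hz z (by simp)
  have c := conj_ev2 (MulAut.conj g).toMonoidHom (h.act.gen a) (h.act.gen t) v
  have e1 : (MulAut.conj g).toMonoidHom (h.act.gen a) = h.act.gen x := by simp [h1]
  have e2 : (MulAut.conj g).toMonoidHom (h.act.gen t) = h.act.gen y := by simp [h2]
  rw [e1, e2, ← ev_inst2, ← ev_inst2] at c
  apply h.smul_ne_of_moveAll e (g • h.act.pt z)
  have f1 := h.act.ev_smul (inst2 a t v) hz'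
  have f2 : evp h.act.app (inst2 a t v) z = z := (beq_iff _ _).1 h0
  rw [f2] at f1
  rw [← c]
  simp only [MulEquiv.coe_toMonoidHom, MulAut.conj_apply, mul_smul, inv_smul_smul]
  rw [f1]

/-- The same with the roles exchanged. -/
theorem TabOK.not_conj_fix' (h : TabOK n w app r k partner slp) {a t x y : ℕ} {v : List ℕ} {z : ℕ}
    (hz : okcb n w [z] = true) (h0 : Nat.beq (evp app (inst2 x y v) z) z = true)
    (e : moveAll w app (inst2 a t v) 0 n = true) (g : tabGroup n w app r)
    (h1 : g * h.act.gen a = h.act.gen x * g) (h2 : g * h.act.gen t = h.act.gen y * g) : False :=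
  h.not_conj_fix hz h0 e g⁻¹ (by rw [inv_mul_eq_iff_eq_mul, ← mul_assoc, h1]; group)
    (by rw [inv_mul_eq_iff_eq_mul, ← mul_assoc, h2]; group)

end Cfsg.Agent.CG
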