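import Cfsg.Agent.Lib.CG.Out

/-! Small gluing lemmas for generated certificates. -/

set_option autoImplicit false

namespace Cfsg.Agent.CG

section
variable {n w : ℕ} [NeZero n] {app : ℕ → ℕ → ℕ} {r k : ℕ} {partner : ℕ → ℕ} {slp : ℕ → Bool × List ℕ}

/-- The letters `lo ≤ a < lo + cnt` are in `T` or are defined from letters in `T` or at least `lo`. -/
noncomputable def slpIn (slp : ℕ → Bool × List ℕ) (T : List ℕ) (lo cnt : ℕ) : Bool :=
  allRange (fun a => bor (memL a T) (allL (fun b => bor (memL b T) (Nat.ble lo b)) (slp a).2)) lo cnt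

theorem TabOK.mem_cl_of_slpIn (h : TabOK n w app r k partner slp) {T : List ℕ} {lo cnt : ℕ} (h1 : r ≤ lo)
    (h2 : lo + cnt ≤ k) (hs : slpIn slp T lo cnt = true) :
    ∀ a, lo ≤ a → a < lo + cnt → h.act.gen a ∈ cl h.act.gen T := by
  intro a
  induction a using Nat.strong_induction_on with
  | _ a ih =>
    intro ha ha'
    unfold slpIn at hs
    have := (allRange_iff _ _ _).1 hs a ha ha'
    rw [bor_eq, memL_iff, allL_iff] at this
    rcases this with h3 | h3
    · exact gen_mem_cl _ h3
    · have hlt : ∀ b ∈ (slp a).2, b < a := by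
        have := (allRange_iff _ _ _).1 h.lt a (by omega) (by omega)
        unfold ltAll at this
        rw [allL_iff] at this
        exact fun b hb => (blt_iff _ _).1 (this b hb)
      have hm : ev h.act.gen (slp a).2 ∈ cl h.act.gen T := by
        apply ev_mem
        intro b hb
        have := h3 b hb
        rw [bor_eq, memL_iff, ble_iff] at this
        rcases this with h4 | h4
        · exact gen_mem_cl _ h4
        · exact ih b (hlt b hb) h4 (by have := hlt b hb; omega)
      rw [h.gen_slp (by omega) (by omega)]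
      split_ifs
      · exact inv_mem hm
      · exact hm

/-- The letters `S` generate: each basic letter is a word in `S`. -/
theorem TabOK.cl_eq_top_of_words (h : TabOK n w app r k partner slp) {S : List ℕ} {Ws : List (List ℕ)}
    (h1 : lettersIn S Ws = true) (h2 : allRange (fun i => eqAll w app [i] (nth Ws [] i) 0 n) 0 r = true) :
    cl h.act.gen S = ⊤ := by
  rw [eq_top_iff, ← h.cl_eq_top]
  apply cl_le
  intro i hi
  rw [List.mem_range] at hi
  have := h.ev_eq_of_eqAll ((allRange_iff _ _ _).1 h2 i (Nat.zero_le _) (by omega))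
  rw [ev_singleton] at this
  rw [this]
  apply ev_mem
  intro a ha
  apply gen_mem_cl
  rw [lettersIn_iff] at h1
  rw [nth_eq] at ha
  by_cases hl : i < Ws.length
  · rw [List.getD_eq_getElem _ _ hl] at ha
    exact h1 _ (List.getElem_mem _) a ha
  · rw [List.getD_eq_default _ _ (by omega)] at ha
    simp at ha

theorem TabOK.cl_eq_top_of_slpIn (h : TabOK n w app r k partner slp) {S T : List ℕ} {lo cnt : ℕ} (h1 : r ≤ lo)
    (h2 : lo + cnt ≤ k) (hs : slpIn slp T lo cnt = true) (hS : cl h.act.gen S = ⊤)
    (h3 : allL (fun a => band (Nat.ble lo a) (blt a (Nat.add lo cnt))) S = true) : cl h.act.gen T = ⊤ := by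
  rw [eq_top_iff, ← hS]
  apply cl_le
  intro a ha
  have := (allL_iff _ _).1 h3 a ha
  rw [band_eq, ble_iff, blt_iff] at this
  exact h.mem_cl_of_slpIn h1 h2 hs a this.1 this.2

theorem TabOK.rels (h : TabOK n w app r k partner slp) {R : List (List ℕ)}
    (hR : allL (fun v => oneAll w app v 0 n) R = true) : ∀ v ∈ R, ev h.act.gen v = 1 :=
  fun v hv => h.ev_eq_one_of_oneAll ((allL_iff _ _).1 hR v hv)

theorem TabOK.inv (h : TabOK n w app r k partner slp) (hr : r ≤ k) {B : List ℕ} (hB : h.act.IsBase B) {I : List ℕ}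
    (hI : I.length ≤ k) (hc : allRange (fun a => eqW app B [a, nth I k a] []) 0 k = true) :
    ∀ a, h.act.gen (nth I k a) = (h.act.gen a)⁻¹ := by
  intro a
  by_cases ha : a < k
  · have := hB.ev_eq ((allRange_iff _ _ _).1 hc a (Nat.zero_le _) (by omega))
    simp only [ev_cons, ev_nil, mul_one] at this
    exact eq_inv_of_mul_eq_one_right this
  · rw [nth_triv I k (by omega), h.gen_triv hr le_rfl, h.gen_triv (by omega) (by omega), inv_one]

end

section
variable {G X : Type*} [Group G] [MulAction G X] {A : Act G X} {B : List ℕ}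

theorem Act.IsBase.rels (hB : A.IsBase B) {R : List (List ℕ)} (hR : allL (fun v => eqW A.app B v []) R = true) :
    ∀ v ∈ R, ev A.gen v = 1 := fun v hv => hB.ev_eq ((allL_iff _ _).1 hR v hv)

/-- The letters of all levels lie in `S`. -/
noncomputable def chainIn (S : List ℕ) (L : List Lvl) : Bool :=
  force (maskOf S) fun m => allL (fun l => allL (fun a => bit m a) l.S) L

theorem chainIn_mem {S : List ℕ} {L : List Lvl} (h : chainIn S L = true) : ∀ l ∈ L, ∀ a ∈ l.S, a ∈ S := by
  unfold chainIn at h
  rw [force_eq, allL_iff] at h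
  intro l hl a ha
  exact (bit_maskOf _ _).1 ((allL_iff _ _).1 (h l hl) a ha)

/-- The order of the subgroup generated by `S`, from a chain and a certified presentation. -/
theorem card_cl_eq [Finite G] {S : List ℕ} {L : List Lvl} {R : List (List ℕ)} {N : ℕ} (hC : ChainOK A L [])
    (hin : chainIn S L = true) (hb : Bounds R S N) (hR : ∀ v ∈ R, ev A.gen v = 1) (hN : N ≤ prodN L) :
    Nat.card (cl A.gen S) = N :=
  le_antisymm (hb.univ A.gen hR).2
    (le_trans hN (hC.prodN_le_card_of_mem fun l hl a ha => gen_mem_cl _ (chainIn_mem hin l hl a ha)))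

/-- A cyclic subgroup of prime order. -/
theorem card_cl_singleton (hB : A.IsBase B) {a p : ℕ} (hp : p.Prime) (h1 : eqW A.app B (repL p a) [] = true)
    (h2 : eqW A.app B [a] [] = false) : Nat.card (cl A.gen [a]) = p ^ 1 := by
  have e1 : A.gen a ^ p = 1 := by rw [← ev_repL]; exact hB.ev_eq h1
  have e2 : A.gen a ≠ 1 := by simpa using A.ev_ne_of_eqW hB.1 h2
  have := Fact.mk hp
  have : cl A.gen [a] = Subgroup.zpowers (A.gen a) := by
    unfold cl
    rw [Subgroup.zpowers_eq_closure]; congr 1; ext x; simp [eq_comm]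
  rw [this, Nat.card_zpowers, orderOf_eq_prime e1 e2, pow_one]

end

end Cfsg.Agent.CG
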