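import Cfsg.Agent.Lib.CG.Glue

/-! More gluing lemmas for generated certificates. -/

set_option autoImplicit false

namespace Cfsg.Agent.CG

/-- Concatenation of numerals of `s` bits each, lowest first. -/
noncomputable def catN (s : ℕ) (l : List ℕ) : ℕ :=
  List.rec (motive := fun _ => ℕ) 0 (fun a _ ih => Nat.lor a (Nat.shiftLeft ih s)) l

/-- The action of letters through a list of tables with the default table `d`. -/
noncomputable def appT (tabs : List ℕ) (d M : ℕ) (a x : ℕ) : ℕ := Nat.land (Nat.shiftRight (nth tabs d a) x) M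

theorem appT_triv {tabs : List ℕ} {d M k : ℕ} (h : Nat.ble tabs.length k = true) :
    ∀ a, k ≤ a → appT tabs d M a = appT tabs d M k := by
  intro a ha
  rw [ble_iff] at h
  funext x
  unfold appT
  rw [nth_triv tabs d h, nth_triv tabs d (le_trans h ha)]

theorem appT_old {tabs tabs' : List ℕ} {d M k : ℕ} (h : Nat.ble k tabs.length = true) :
    ∀ a, a < k → appT (tabs ++ tabs') d M a = appT tabs d M a := by
  intro a ha
  rw [ble_iff] at h
  funext x
  unfold appT
  rw [nth_eq, nth_eq, List.getD_append _ _ _ _ (by omega)]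

/-- The numbers `lo, lo+1, …, lo+cnt-1`. -/
noncomputable def rangeL (lo cnt : ℕ) : List ℕ :=
  Nat.rec (motive := fun _ => ℕ → List ℕ) (fun _ => []) (fun _ ih lo => lo :: ih (Nat.succ lo)) cnt lo

theorem mem_rangeL {lo cnt i : ℕ} (h1 : lo ≤ i) (h2 : i < lo + cnt) : i ∈ rangeL lo cnt := by
  induction cnt generalizing lo with
  | zero => omega
  | succ c ih =>
    have : rangeL lo (c + 1) = lo :: rangeL (lo + 1) c := rfl
    rw [this, List.mem_cons]
    by_cases h : i = lo
    · exact Or.inl h
    · exact Or.inr (ih (by omega) (by omega))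

theorem allRange_of_allL {p : ℕ → Bool} {l : List ℕ} {lo cnt : ℕ} (e : eqL l (rangeL lo cnt) = true)
    (h : allL p l = true) : allRange p lo cnt = true := by
  rw [eqL_iff] at e
  rw [allL_iff] at h
  rw [allRange_iff]
  intro i h1 h2
  exact h i (e ▸ mem_rangeL h1 h2)

theorem not_dvd_of_eq {G : Type*} {N m : ℕ} (h : Nat.card G = N) (h2 : Nat.beq (Nat.mod N m) 0 = false) :
    ¬ m ∣ Nat.card G := by
  rw [h, beq_false_iff] at *
  intro hd
  exact h2 (Nat.mod_eq_zero_of_dvd hd)

/-- An automorphism from a certified presentation, with the images of two letters. -/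
theorem exists_aut' {G X : Type*} [Group G] [MulAction G X] [Finite G] {A : Act G X} {B : List ℕ} (hB : A.IsBase B)
    {R : List (List ℕ)} {S : List ℕ} {N : ℕ} (hb : Bounds R S N) (hG : ∀ r ∈ R, ev A.gen r = 1)
    (hS : cl A.gen S = ⊤) (hN : N ≤ Nat.card G) {img : ℕ → List ℕ}
    (hR : allL (fun r => eqW A.app B (substW img r) []) R = true) {a t x y : ℕ} (hat : cl A.gen [a, t] = ⊤)
    {va vt wa wt : List ℕ} (hv : lettersIn S [va, vt, wa, wt] = true)
    (h : allL (fun p : List ℕ × List ℕ => eqW A.app B p.1 p.2) [(substW img va, [a]), (substW img vt, [t]),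
      (wa, [a]), (wt, [t]), (substW img wa, [x]), (substW img wt, [y])] = true) :
    ∃ σ : MulAut G, σ (A.gen a) = A.gen x ∧ σ (A.gen t) = A.gen y := by
  rw [allL_iff] at h
  have hv' := lettersIn_iff.1 hv
  obtain ⟨σ, hσ⟩ := exists_aut hB hb hG hS hN hR hat (va := va) (vt := vt)
    (lettersIn_iff.2 fun v hv => hv' v (by simp at hv ⊢; tauto)) (h (substW img va, [a]) (by simp))
    (h (substW img vt, [t]) (by simp))
  have key : ∀ v : List ℕ, (∀ s ∈ v, s ∈ S) → σ (ev A.gen v) = ev A.gen (substW img v) := by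
    intro v hv
    have := map_ev A.gen σ.toMonoidHom v
    rw [ev_substW]
    exact this.trans (ev_congr _ fun s hs => hσ s (hv s hs))
  have e1 := hB.ev_eq (h (wa, [a]) (by simp))
  have e2 := hB.ev_eq (h (wt, [t]) (by simp))
  have e3 := hB.ev_eq (h (substW img wa, [x]) (by simp))
  have e4 := hB.ev_eq (h (substW img wt, [y]) (by simp))
  simp only [ev_singleton] at e1 e2 e3 e4
  exact ⟨σ, by rw [← e1, key wa (hv' wa (by simp)), e3], by rw [← e2, key wt (hv' wt (by simp)), e4]⟩

theorem ExtOK.inv {G X : Type*} [Group G] [MulAction G X] {A : Act G X} {n w : ℕ} {app : ℕ → ℕ → ℕ} {k k' : ℕ}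
    {slp : ℕ → Bool × List ℕ} (h : ExtOK A n w app k k' slp) (hk : k ≤ k') {B : List ℕ} (hB : A.IsBase B)
    {I : List ℕ} (hI : I.length ≤ k') (hc : allRange (fun a => eqW app B [a, nth I k' a] []) 0 k' = true) :
    ∀ a, h.act.gen (nth I k' a) = (h.act.gen a)⁻¹ := by
  intro a
  by_cases ha : a < k'
  · have := (h.isBase hB).ev_eq ((allRange_iff _ _ _).1 hc a (Nat.zero_le _) (by omega))
    simp only [ev_cons, ev_nil, mul_one] at this
    exact eq_inv_of_mul_eq_one_right this
  · rw [nth_triv I k' (by omega)]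
    have e1 : h.act.gen k' = 1 := extGen_ge hk le_rfl
    have e2 : h.act.gen a = 1 := extGen_ge (by omega) (by omega)
    rw [e1, e2, inv_one]

end Cfsg.Agent.CG
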