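import Cfsg.Agent.Lib.CG.Perm

/-! Stabiliser chains: certified orbits give lower bounds for orders, bases, and sifting. -/

set_option autoImplicit false

namespace Cfsg.Agent.CG

/-- The bit mask of a list of letters. -/
noncomputable def maskOf (S : List ℕ) : ℕ :=
  List.rec (motive := fun _ => ℕ) 0 (fun a _ ih => Nat.lor (Nat.shiftLeft 1 a) ih) S

/-- Bit test. -/
abbrev bit (m a : ℕ) : Bool := Nat.beq (Nat.land (Nat.shiftRight m a) 1) 1

theorem bit_eq_testBit (m a : ℕ) : bit m a = m.testBit a := by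
  unfold bit Nat.testBit
  have h : Nat.land (Nat.shiftRight m a) 1 = (m >>> a) % 2 := Nat.and_one_is_mod _
  have h2 : 1 &&& (m >>> a) = (m >>> a) % 2 := Nat.one_and_eq_mod_two _
  rw [h, h2]
  rcases Nat.mod_two_eq_zero_or_one (m >>> a) with e | e <;> rw [e] <;> rfl

theorem bit_maskOf (S : List ℕ) (a : ℕ) : bit (maskOf S) a = true ↔ a ∈ S := by
  rw [bit_eq_testBit]
  induction S with
  | nil => simp [maskOf]
  | cons b S ih =>
    have : maskOf (b :: S) = (1 <<< b) ||| maskOf S := rfl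
    rw [this, Nat.testBit_or, Bool.or_eq_true, ih, Nat.one_shiftLeft, Nat.testBit_two_pow]
    simp [eq_comm]

/-- One level of a stabiliser chain: base point `b`, letters `S`, and `N` points `code i` of the orbit, listed so that
`code i` is the image of the earlier `code (par i)` under the letter `lab i`; `pos` inverts `code`; `ilab i` is a
letter meant to invert `lab i`; `dep` bounds the depth of the tree. -/
structure Lvl where
  b : ℕ
  S : List ℕ
  N : ℕ
  code : ℕ → ℕ
  par : ℕ → ℕ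
  lab : ℕ → ℕ
  ilab : ℕ → ℕ
  pos : ℕ → ℕ
  dep : ℕ

/-- The check of the `i`-th orbit point, `i ≥ 1`. -/
noncomputable def orbChk (app : ℕ → ℕ → ℕ) (m : ℕ) (code par lab pos : ℕ → ℕ) (i : ℕ) : Bool :=
  force (lab i) fun a => force (code i) fun x => force (par i) fun j =>
    band (blt j i) (band (bit m a) (band (Nat.beq (app a (code j)) x) (Nat.beq (pos x) i)))

/-- The orbit check on the indices `lo ≤ i < lo + cnt`. -/
noncomputable def Lvl.chk (app : ℕ → ℕ → ℕ) (l : Lvl) (lo cnt : ℕ) : Bool :=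
  force (maskOf l.S) fun m => allRange (orbChk app m l.code l.par l.lab l.pos) lo cnt

theorem Lvl.chk_append {app : ℕ → ℕ → ℕ} {l : Lvl} {lo c d : ℕ} (h1 : l.chk app lo c = true)
    (h2 : l.chk app (lo + c) d = true) : l.chk app lo (c + d) = true := by
  unfold Lvl.chk at *
  rw [force_eq] at *
  exact allRange_append h1 h2

/-- The cheap part of the check of a level: the letters fix the earlier base points; the first point is `b`. -/
noncomputable def Lvl.head (app : ℕ → ℕ → ℕ) (fixed : List ℕ) (l : Lvl) : Bool :=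
  band (allL (fun a => allL (fun c => Nat.beq (app a c) c) fixed) l.S)
    (band (Nat.beq (l.code 0) l.b) (band (Nat.beq (l.pos l.b) 0) (blt 0 l.N)))

/-- The cheap part for a chain. -/
noncomputable def headAll (app : ℕ → ℕ → ℕ) (L : List Lvl) (fixed : List ℕ) : Bool :=
  List.rec (motive := fun _ => List ℕ → Bool) (fun _ => true)
    (fun l _ ih fixed => band (l.head app fixed) (ih (l.b :: fixed))) L fixed

/-- The product of the orbit lengths. -/
noncomputable def prodN (L : List Lvl) : ℕ :=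
  List.rec (motive := fun _ => ℕ) 1 (fun l _ ih => Nat.mul l.N ih) L

/-- The base points. -/
def bases (L : List Lvl) : List ℕ := L.map Lvl.b

section
variable {G X : Type*} [Group G] [MulAction G X] (A : Act G X)

/-- The pointwise stabiliser of a list of coded points. -/
def Act.fix (B : List ℕ) : Subgroup G where
  carrier := {g | ∀ b ∈ B, g • A.pt b = A.pt b}
  one_mem' := by intro b _; simp
  mul_mem' := by intro g h hg hh b hb; rw [mul_smul, hh b hb, hg b hb]
  inv_mem' := by intro g hg b hb; rw [inv_smul_eq_iff, hg b hb]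

theorem Act.mem_fix {B : List ℕ} {g : G} : g ∈ A.fix B ↔ ∀ b ∈ B, g • A.pt b = A.pt b := Iff.rfl

theorem Act.fix_nil : A.fix [] = ⊤ := by ext g; simp [Act.mem_fix]

theorem Act.mem_fix_cons {B : List ℕ} {b : ℕ} {g : G} :
    g ∈ A.fix (b :: B) ↔ g • A.pt b = A.pt b ∧ g ∈ A.fix B := by
  simp [Act.mem_fix]

/-- What a checked level says. -/
structure LvlOK (fixed : List ℕ) (l : Lvl) : Prop where
  okb : A.ok l.b
  fixes : ∀ a ∈ l.S, A.gen a ∈ A.fix fixed
  code0 : l.code 0 = l.b
  N_pos : 0 < l.N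
  pos_code : ∀ i, i < l.N → l.pos (l.code i) = i
  ok_code : ∀ i, i < l.N → A.ok (l.code i)
  orb : ∀ i, i < l.N → ∃ g ∈ cl A.gen l.S, g • A.pt l.b = A.pt (l.code i)

theorem lvlOK_of_chk {fixed : List ℕ} {l : Lvl} (hf : ∀ c ∈ fixed, A.ok c) (hb : A.ok l.b)
    (h1 : l.head A.app fixed = true) (h2 : l.chk A.app 1 (l.N - 1) = true) : LvlOK A fixed l := by
  unfold Lvl.head at h1
  rw [band_eq, band_eq, band_eq, beq_iff, beq_iff, blt_iff, allL_iff] at h1
  obtain ⟨h11, h12, h13, h14⟩ := h1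
  unfold Lvl.chk at h2
  rw [force_eq, allRange_iff] at h2
  have key : ∀ i, i < l.N → l.pos (l.code i) = i ∧ A.ok (l.code i) ∧
      ∃ g ∈ cl A.gen l.S, g • A.pt l.b = A.pt (l.code i) := by
    intro i
    induction i using Nat.strong_induction_on with
    | _ i ih =>
      intro hi
      rcases Nat.eq_zero_or_pos i with rfl | hpos
      · rw [h12]; exact ⟨h13, hb, 1, one_mem _, one_smul _ _⟩
      · have := h2 i hpos (by omega)
        unfold orbChk at this
        rw [force_eq, force_eq, force_eq, band_eq, band_eq, band_eq, blt_iff, bit_maskOf, beq_iff, beq_iff] at this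
        obtain ⟨t1, t2, t3, t4⟩ := this
        obtain ⟨_, o2, g, hg, o3⟩ := ih _ t1 (by omega)
        refine ⟨t4, t3 ▸ A.ok_app _ _ o2, A.gen (l.lab i) * g, mul_mem (gen_mem_cl _ t2) hg, ?_⟩
        rw [mul_smul, o3, A.smul_pt _ _ o2, t3]
  refine ⟨hb, ?_, h12, h14, fun i hi => (key i hi).1, fun i hi => (key i hi).2.1, fun i hi => (key i hi).2.2⟩
  intro a ha c hc
  have := h11 a ha
  rw [allL_iff] at this
  rw [A.smul_pt a c (hf c hc), (beq_iff _ _).1 (this c hc)]

/-- What a checked chain says. -/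
def ChainOK : List Lvl → List ℕ → Prop
  | [], _ => True
  | l :: L, fixed => LvlOK A fixed l ∧ ChainOK L (l.b :: fixed)

theorem chainOK_of_chk : ∀ (L : List Lvl) (fixed : List ℕ), (∀ c ∈ fixed, A.ok c) → (∀ b ∈ bases L, A.ok b) →
    headAll A.app L fixed = true → allL (fun l => l.chk A.app 1 (l.N - 1)) L = true → ChainOK A L fixed
  | [], _, _, _, _, _ => trivial
  | l :: L, fixed, hf, hb, h1, h2 => by
    have e : headAll A.app (l :: L) fixed = band (l.head A.app fixed) (headAll A.app L (l.b :: fixed)) := rfl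
    rw [e, band_eq] at h1
    rw [allL_iff] at h2
    have hbl : A.ok l.b := hb _ (by simp [bases])
    refine ⟨lvlOK_of_chk A hf hbl h1.1 (h2 l (by simp)), chainOK_of_chk L _ ?_ ?_ h1.2 ?_⟩
    · intro c hc
      rcases List.mem_cons.1 hc with rfl | hc
      · exact hbl
      · exact hf c hc
    · intro b hb'; exact hb b (by simp only [bases, List.map_cons, List.mem_cons] at hb' ⊢; exact Or.inr hb')
    · rw [allL_iff]; exact fun l' hl' => h2 l' (by simp [hl'])

variable {A}

theorem card_fix_cons [Finite G] (K : Subgroup G) (fixed : List ℕ) (b : ℕ) :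
    Nat.card ↥(K ⊓ A.fix fixed) =
      Nat.card (MulAction.orbit ↥(K ⊓ A.fix fixed) (A.pt b)) * Nat.card ↥(K ⊓ A.fix (b :: fixed)) := by
  have h1 := Nat.card_congr (MulAction.orbitProdStabilizerEquivGroup ↥(K ⊓ A.fix fixed) (A.pt b))
  rw [← h1, Nat.card_prod]
  congr 1
  refine Nat.card_congr ⟨fun g => ⟨g.1.1, g.1.2.1, A.mem_fix_cons.2 ⟨g.2, g.1.2.2⟩⟩,
    fun g => ⟨⟨g.1, g.2.1, (A.mem_fix_cons.1 g.2.2).2⟩, (A.mem_fix_cons.1 g.2.2).1⟩, fun _ => rfl, fun _ => rfl⟩

theorem LvlOK.orbit_inj {fixed : List ℕ} {l : Lvl} (h : LvlOK A fixed l) {K : Subgroup G}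
    (hK : ∀ a ∈ l.S, A.gen a ∈ K) :
    ∃ f : Fin l.N → MulAction.orbit ↥(K ⊓ A.fix fixed) (A.pt l.b), Function.Injective f ∧
      ∀ i, (f i : X) = A.pt (l.code i) := by
  have hle : cl A.gen l.S ≤ K ⊓ A.fix fixed := cl_le _ fun a ha => ⟨hK a ha, h.fixes a ha⟩
  have hm : ∀ i : Fin l.N, A.pt (l.code i) ∈ MulAction.orbit ↥(K ⊓ A.fix fixed) (A.pt l.b) := by
    intro i
    obtain ⟨g, hg, e⟩ := h.orb i i.2
    exact ⟨⟨g, hle hg⟩, e⟩
  refine ⟨fun i => ⟨_, hm i⟩, ?_, fun _ => rfl⟩
  intro i j hij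
  have := A.inj _ _ (h.ok_code i i.2) (h.ok_code j j.2) (congrArg Subtype.val hij)
  apply Fin.ext
  rw [← h.pos_code i i.2, this, h.pos_code j j.2]

theorem LvlOK.le_card_orbit [Finite G] {fixed : List ℕ} {l : Lvl} (h : LvlOK A fixed l) {K : Subgroup G}
    (hK : ∀ a ∈ l.S, A.gen a ∈ K) :
    l.N ≤ Nat.card (MulAction.orbit ↥(K ⊓ A.fix fixed) (A.pt l.b)) := by
  obtain ⟨f, hf, _⟩ := h.orbit_inj hK
  have : Finite (MulAction.orbit ↥(K ⊓ A.fix fixed) (A.pt l.b)) := (Set.finite_range _).to_subtype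
  simpa using Nat.card_le_card_of_injective f hf

/-- Lower bound for the order. -/
theorem ChainOK.prodN_le [Finite G] {K : Subgroup G} : ∀ {L : List Lvl} {fixed : List ℕ}, ChainOK A L fixed →
    (∀ l ∈ L, ∀ a ∈ l.S, A.gen a ∈ K) → prodN L ≤ Nat.card ↥(K ⊓ A.fix fixed)
  | [], _, _, _ => Nat.card_pos
  | l :: L, fixed, h, hK => by
    have h1 := h.1.le_card_orbit (hK l (by simp))
    have h2 := ChainOK.prodN_le h.2 (fun l' hl' => hK l' (by simp [hl']))
    rw [card_fix_cons K fixed l.b]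
    exact Nat.mul_le_mul h1 h2

/-- The chain describes the stabilisers in `K` exactly. -/
def Exact (A : Act G X) (K : Subgroup G) : List Lvl → List ℕ → Prop
  | [], fixed => K ⊓ A.fix fixed = ⊥
  | l :: L, fixed => (∀ g ∈ K ⊓ A.fix fixed, ∃ i, i < l.N ∧ g • A.pt l.b = A.pt (l.code i)) ∧
      Exact A K L (l.b :: fixed)

theorem ChainOK.exact [Finite G] {K : Subgroup G} : ∀ {L : List Lvl} {fixed : List ℕ}, ChainOK A L fixed →
    (∀ l ∈ L, ∀ a ∈ l.S, A.gen a ∈ K) → Nat.card ↥(K ⊓ A.fix fixed) ≤ prodN L → Exact A K L fixed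
  | [], fixed, _, _, hc => by
    have : Nat.card ↥(K ⊓ A.fix fixed) = 1 := le_antisymm hc Nat.card_pos
    exact Subgroup.card_eq_one.1 this
  | l :: L, fixed, h, hK, hc => by
    have h1 := h.1.le_card_orbit (hK l (by simp))
    have h2 := ChainOK.prodN_le h.2 (fun l' hl' => hK l' (by simp [hl']))
    rw [card_fix_cons K fixed l.b] at hc
    have e : prodN (l :: L) = l.N * prodN L := rfl
    rw [e] at hc
    have hp : 0 < prodN L * 1 := by
      have : 0 < Nat.card ↥(K ⊓ A.fix (l.b :: fixed)) := Nat.card_pos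
      rcases Nat.eq_zero_or_pos (prodN L) with h0 | h0
      · rw [h0] at hc
        have h3 : 0 < Nat.card (MulAction.orbit ↥(K ⊓ A.fix fixed) (A.pt l.b)) := lt_of_lt_of_le h.1.N_pos h1
        have := Nat.mul_pos h3 this
        omega
      · omega
    have h3 : Nat.card (MulAction.orbit ↥(K ⊓ A.fix fixed) (A.pt l.b)) ≤ l.N := by
      have : Nat.card (MulAction.orbit ↥(K ⊓ A.fix fixed) (A.pt l.b)) * prodN L ≤ l.N * prodN L :=
        le_trans (Nat.mul_le_mul_left _ h2) hc
      exact Nat.le_of_mul_le_mul_right this (by omega)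
    have h4 : Nat.card ↥(K ⊓ A.fix (l.b :: fixed)) ≤ prodN L := by
      have : l.N * Nat.card ↥(K ⊓ A.fix (l.b :: fixed)) ≤ l.N * prodN L :=
        le_trans (Nat.mul_le_mul_right _ h1) hc
      exact Nat.le_of_mul_le_mul_left this h.1.N_pos
    refine ⟨?_, ChainOK.exact h.2 (fun l' hl' => hK l' (by simp [hl'])) h4⟩
    obtain ⟨f, hf, hf2⟩ := h.1.orbit_inj (hK l (by simp))
    have : Finite (MulAction.orbit ↥(K ⊓ A.fix fixed) (A.pt l.b)) := (Set.finite_range _).to_subtype
    have hb : Function.Bijective f := by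
      apply (Nat.bijective_iff_injective_and_card f).2
      exact ⟨hf, by simpa using le_antisymm h1 h3⟩
    intro g hg
    obtain ⟨i, hi⟩ := hb.2 ⟨g • A.pt l.b, ⟨⟨g, hg⟩, rfl⟩⟩
    exact ⟨i, i.2, by rw [← hf2 i, hi]⟩

theorem Exact.eq_one {K : Subgroup G} : ∀ {L : List Lvl} {fixed : List ℕ}, Exact A K L fixed →
    ∀ g ∈ K, g ∈ A.fix fixed → g ∈ A.fix (bases L) → g = 1
  | [], fixed, h, g, h1, h2, _ => by
    have : g ∈ K ⊓ A.fix fixed := ⟨h1, h2⟩
    rw [show K ⊓ A.fix fixed = ⊥ from h] at this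
    exact this
  | l :: L, fixed, h, g, h1, h2, h3 => by
    have h3' : g ∈ A.fix (l.b :: bases L) := h3
    rw [A.mem_fix_cons] at h3'
    exact Exact.eq_one h.2 g h1 (A.mem_fix_cons.2 ⟨h3'.1, h2⟩) h3'.2

theorem ChainOK.ok_bases : ∀ {L : List Lvl} {fixed : List ℕ}, ChainOK A L fixed → ∀ b ∈ bases L, A.ok b
  | [], _, _, b, hb => by simp [bases] at hb
  | l :: L, _, h, b, hb => by
    rcases List.mem_cons.1 hb with rfl | hb
    · exact h.1.okb
    · exact ChainOK.ok_bases h.2 b hb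

theorem ChainOK.prodN_le_card [Finite G] {L : List Lvl} (h : ChainOK A L []) : prodN L ≤ Nat.card G := by
  have := h.prodN_le (K := ⊤) (fun _ _ _ _ => Subgroup.mem_top _)
  rwa [A.fix_nil, inf_idem, Subgroup.card_top] at this

theorem ChainOK.prodN_le_card_of_mem [Finite G] {L : List Lvl} (h : ChainOK A L []) {K : Subgroup G}
    (hK : ∀ l ∈ L, ∀ a ∈ l.S, A.gen a ∈ K) : prodN L ≤ Nat.card K := by
  have := h.prodN_le hK
  rwa [A.fix_nil, inf_top_eq] at this

theorem ChainOK.exact_top [Finite G] {L : List Lvl} (h : ChainOK A L []) (hc : Nat.card G ≤ prodN L) :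
    Exact A ⊤ L [] :=
  h.exact (fun _ _ _ _ => Subgroup.mem_top _) (by rwa [A.fix_nil, inf_idem, Subgroup.card_top])

theorem ChainOK.isBase [Finite G] {L : List Lvl} (h : ChainOK A L []) (hc : Nat.card G ≤ prodN L) :
    A.IsBase (bases L) :=
  ⟨h.ok_bases, fun g hg => (h.exact_top hc).eq_one g (Subgroup.mem_top _) (by simp [A.fix_nil]) hg⟩

theorem ChainOK.card_eq [Finite G] {L : List Lvl} (h : ChainOK A L []) (hc : Nat.card G ≤ prodN L) :
    Nat.card G = prodN L := le_antisymm hc h.prodN_le_card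

end

/-- Codes of points of `Fin n`, tested. -/
noncomputable def okcb (n w : ℕ) (B : List ℕ) : Bool :=
  allL (fun y => band (Nat.beq (Nat.mod y w) 0) (blt y (Nat.mul w n))) B

theorem okc_of_okcb {n w : ℕ} {B : List ℕ} (h : okcb n w B = true) : ∀ b ∈ B, okc n w b := by
  unfold okcb at h
  rw [allL_iff] at h
  intro y hy
  have := h y hy
  rw [band_eq, beq_iff, blt_iff] at this
  obtain ⟨c, hc⟩ := Nat.dvd_of_mod_eq_zero this.1
  refine ⟨c, ?_, hc⟩
  have h2' : w * c < w * n := by rw [← hc]; exact this.2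
  exact Nat.lt_of_mul_lt_mul_left h2'

end Cfsg.Agent.CG
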