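import Cfsg.Agent.Lib.CG.Sift
import Cfsg.Prelude.Def_KGroupFacts

/-! Enumeration of a conjugacy class, and the outer automorphism group from a generating pair. -/

set_option autoImplicit false

namespace Cfsg.Agent.CG

/-- Conjugate the function `f` by the letters that are the digits of `c`. -/
noncomputable def conjF (app : ℕ → ℕ → ℕ) (inv : ℕ → ℕ) (db dm fuel c : ℕ) (f : ℕ → ℕ) (k : (ℕ → ℕ) → Bool) : Bool :=
  Nat.rec (motive := fun _ => ℕ → (ℕ → ℕ) → Bool) (fun _ f => k f)
    (fun _ ih c f => force (Nat.land c dm) fun a =>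
      ih (Nat.shiftRight c db) (fun y => app a (f (app (inv a) y)))) fuel c f

/-- The function computed by `conjF`. -/
def conjP (app : ℕ → ℕ → ℕ) (inv : ℕ → ℕ) (db dm : ℕ) : ℕ → ℕ → (ℕ → ℕ) → ℕ → ℕ
  | 0, _, f => f
  | fuel + 1, c, f => conjP app inv db dm fuel (Nat.shiftRight c db)
      (fun y => app (Nat.land c dm) (f (app (inv (Nat.land c dm)) y)))

theorem conjF_eq (app : ℕ → ℕ → ℕ) (inv : ℕ → ℕ) (db dm : ℕ) (k : (ℕ → ℕ) → Bool) :
    ∀ (fuel c : ℕ) (f : ℕ → ℕ), conjF app inv db dm fuel c f k = k (conjP app inv db dm fuel c f)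
  | 0, _, _ => rfl
  | fuel + 1, c, f => by
    have e : conjF app inv db dm (fuel + 1) c f k = force (Nat.land c dm) fun a =>
      conjF app inv db dm fuel (Nat.shiftRight c db) (fun y => app a (f (app (inv a) y))) k := rfl
    rw [e, force_eq, conjF_eq]; rfl

/-- The key of a function: its values on `Y` as digits in base `M`. -/
noncomputable def keyOf (f : ℕ → ℕ) (Y : List ℕ) (M : ℕ) : ℕ :=
  List.rec (motive := fun _ => ℕ) 0 (fun y _ ih => Nat.add (Nat.mul ih M) (f y)) Y

/-- The parameters of a class enumeration. -/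
structure Enum where
  inv : ℕ → ℕ
  db : ℕ
  dm : ℕ
  dep : ℕ
  wd : ℕ → ℕ
  t : ℕ
  Y : List ℕ
  M : ℕ

/-- The raw loop of the enumeration check. -/
noncomputable def enumLoop (app : ℕ → ℕ → ℕ) (inv : ℕ → ℕ) (db dm dep : ℕ) (wd : ℕ → ℕ) (t : ℕ) (Y : List ℕ) (M : ℕ)
    (test : (ℕ → ℕ) → Bool) (lo cnt kl kh : ℕ) : Bool :=
  Nat.rec (motive := fun _ => ℕ → Bool) (fun nxt => Nat.ble kl nxt)
    (fun i ih nxt => force (wd (Nat.add lo i)) fun c => conjF app inv db dm dep c (app t) fun f =>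
      force (keyOf f Y M) fun κ => band (blt κ nxt) (band (test f) (ih κ))) cnt kh

/-- The conjugates number `lo ≤ i < lo + cnt` pass `test` and have increasing keys in `[kl, kh)`. -/
noncomputable def Enum.chk (app : ℕ → ℕ → ℕ) (E : Enum) (test : (ℕ → ℕ) → Bool) (lo cnt kl kh : ℕ) : Bool :=
  force E.db fun db => force E.dm fun dm => force E.dep fun dep => force E.t fun t => force E.M fun M =>
    enumLoop app E.inv db dm dep E.wd t E.Y M test lo cnt kl kh

/-- The `i`-th conjugate as a function on codes. -/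
def Enum.fn (app : ℕ → ℕ → ℕ) (E : Enum) (i : ℕ) : ℕ → ℕ := conjP app E.inv E.db E.dm E.dep (E.wd i) (app E.t)

/-- What the enumeration check says. -/
structure Enum.OK (app : ℕ → ℕ → ℕ) (E : Enum) (test : (ℕ → ℕ) → Bool) (lo cnt kl kh : ℕ) : Prop where
  le : kl ≤ kh
  mem : ∀ i, lo ≤ i → i < lo + cnt → kl ≤ keyOf (E.fn app i) E.Y E.M ∧ keyOf (E.fn app i) E.Y E.M < kh ∧
    test (E.fn app i) = true
  mono : ∀ i j, lo ≤ i → i < j → j < lo + cnt → keyOf (E.fn app i) E.Y E.M < keyOf (E.fn app j) E.Y E.M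

theorem Enum.ok_of_chk {app : ℕ → ℕ → ℕ} {E : Enum} {test : (ℕ → ℕ) → Bool} {lo cnt kl kh : ℕ}
    (h : E.chk app test lo cnt kl kh = true) : E.OK app test lo cnt kl kh := by
  unfold Enum.chk at h
  simp only [force_eq] at h
  induction cnt generalizing kh with
  | zero => exact ⟨(ble_iff _ _).1 h, by omega, by omega⟩
  | succ c ih =>
    have e : enumLoop app E.inv E.db E.dm E.dep E.wd E.t E.Y E.M test lo (c + 1) kl kh =
      force (E.wd (Nat.add lo c)) fun c' => conjF app E.inv E.db E.dm E.dep c' (app E.t) fun f =>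
        force (keyOf f E.Y E.M) fun κ => band (blt κ kh) (band (test f)
          (enumLoop app E.inv E.db E.dm E.dep E.wd E.t E.Y E.M test lo c kl κ)) := rfl
    rw [e, force_eq, conjF_eq, force_eq, band_eq, band_eq, blt_iff] at h
    obtain ⟨h1, h2, h3⟩ := h
    have h1 : keyOf (E.fn app (lo + c)) E.Y E.M < kh := h1
    have h2 : test (E.fn app (lo + c)) = true := h2
    have h4 : E.OK app test lo c kl (keyOf (E.fn app (lo + c)) E.Y E.M) := ih h3
    refine ⟨le_trans h4.le h1.le, ?_, ?_⟩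
    · intro i hi hi'
      by_cases hc : i = lo + c
      · rw [hc]; exact ⟨h4.le, h1, h2⟩
      · obtain ⟨a, b, c⟩ := h4.mem i hi (by omega)
        exact ⟨a, lt_trans b h1, c⟩
    · intro i j hi hij hj
      by_cases hc : j = lo + c
      · rw [hc]; exact (h4.mem i hi (by omega)).2.1
      · exact h4.mono i j hi hij (by omega)

theorem Enum.OK.append {app : ℕ → ℕ → ℕ} {E : Enum} {test : (ℕ → ℕ) → Bool} {lo c d k0 k1 k2 : ℕ}
    (h1 : E.OK app test lo c k0 k1) (h2 : E.OK app test (lo + c) d k1 k2) : E.OK app test lo (c + d) k0 k2 := by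
  refine ⟨le_trans h1.le h2.le, ?_, ?_⟩
  · intro i hi hi'
    by_cases hc : i < lo + c
    · obtain ⟨a, b, e⟩ := h1.mem i hi hc
      exact ⟨a, lt_of_lt_of_le b h2.le, e⟩
    · obtain ⟨a, b, e⟩ := h2.mem i (by omega) (by omega)
      exact ⟨le_trans h1.le a, b, e⟩
  · intro i j hi hij hj
    by_cases hc : j < lo + c
    · exact h1.mono i j hi hij hc
    · by_cases hc' : i < lo + c
      · exact lt_of_lt_of_le (h1.mem i hi hc').2.1 (h2.mem j (by omega) (by omega)).1
      · exact h2.mono i j (by omega) hij (by omega)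

section
variable {G X : Type*} [Group G] [MulAction G X] {A : Act G X}

theorem conjP_rep {inv : ℕ → ℕ} (hinv : ∀ a, A.gen (inv a) = (A.gen a)⁻¹) (db dm : ℕ) :
    ∀ (fuel c : ℕ) (f : ℕ → ℕ) (d : G), A.Rep d f →
      ∃ u : G, A.Rep (u * d * u⁻¹) (conjP A.app inv db dm fuel c f)
  | 0, _, _, d, h => ⟨1, by simpa [conjP] using h⟩
  | fuel + 1, c, f, d, h => by
    have h1 := (A.rep_gen (Nat.land c dm)).comp (h.comp (A.rep_gen (inv (Nat.land c dm))))
    obtain ⟨u, hu⟩ := conjP_rep hinv db dm fuel (Nat.shiftRight c db) _ _ h1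
    refine ⟨u * A.gen (Nat.land c dm), ?_⟩
    rw [hinv] at hu
    have : u * A.gen (Nat.land c dm) * d * (u * A.gen (Nat.land c dm))⁻¹ =
      u * (A.gen (Nat.land c dm) * (d * (A.gen (Nat.land c dm))⁻¹)) * u⁻¹ := by group
    rw [this]; exact hu

theorem keyOf_congr {f g : ℕ → ℕ} {Y : List ℕ} (M : ℕ) (h : ∀ y ∈ Y, f y = g y) : keyOf f Y M = keyOf g Y M := by
  induction Y with
  | nil => rfl
  | cons y Y ih =>
    have e : ∀ f : ℕ → ℕ, keyOf f (y :: Y) M = Nat.add (Nat.mul (keyOf f Y M) M) (f y) := fun _ => rfl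
    rw [e, e, ih fun z hz => h z (by simp [hz]), h y (by simp)]

/-- `N` conjugates with distinct keys. -/
theorem Enum.OK.exists_inj {E : Enum} {test : (ℕ → ℕ) → Bool} {N kl kh : ℕ} (h : E.OK A.app test 0 N kl kh)
    (hinv : ∀ a, A.gen (E.inv a) = (A.gen a)⁻¹) (hY : ∀ y ∈ E.Y, A.ok y) :
    ∃ u : Fin N → G, (Function.Injective fun i => (u i : G ⧸ Subgroup.centralizer {A.gen E.t})) ∧
      ∀ i, A.Rep (u i * A.gen E.t * (u i)⁻¹) (E.fn A.app i) := by
  choose u hu using fun i : Fin N => conjP_rep hinv E.db E.dm E.dep (E.wd i) _ _ (A.rep_gen E.t)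
  refine ⟨u, ?_, hu⟩
  intro i j hij
  have h1 : (u i)⁻¹ * u j ∈ Subgroup.centralizer {A.gen E.t} := QuotientGroup.eq.1 hij
  rw [Subgroup.mem_centralizer_singleton_iff] at h1
  have h2 : u i * A.gen E.t * (u i)⁻¹ = u j * A.gen E.t * (u j)⁻¹ := by
    calc u i * A.gen E.t * (u i)⁻¹ = u i * (A.gen E.t * ((u i)⁻¹ * u j)) * (u j)⁻¹ := by group
      _ = _ := by rw [← h1]; group
  have h3 : keyOf (E.fn A.app i) E.Y E.M = keyOf (E.fn A.app j) E.Y E.M :=
    keyOf_congr _ fun y hy => (hu i).apply_eq (h2 ▸ hu j) (hY y hy)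
  rcases lt_trichotomy (i : ℕ) j with hl | hl | hl
  · have := h.mono i j (Nat.zero_le _) hl (by simp); omega
  · exact Fin.ext hl
  · have := h.mono j i (Nat.zero_le _) hl (by simp); omega

theorem Enum.OK.card_centralizer_le [Finite G] {E : Enum} {test : (ℕ → ℕ) → Bool} {N kl kh : ℕ}
    (h : E.OK A.app test 0 N kl kh) (hinv : ∀ a, A.gen (E.inv a) = (A.gen a)⁻¹) (hY : ∀ y ∈ E.Y, A.ok y) :
    N * Nat.card (Subgroup.centralizer {A.gen E.t}) ≤ Nat.card G := by
  obtain ⟨u, hu, -⟩ := h.exists_inj hinv hY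
  rw [Subgroup.card_eq_card_quotient_mul_card_subgroup (Subgroup.centralizer {A.gen E.t})]
  apply Nat.mul_le_mul_right
  simpa using Nat.card_le_card_of_injective _ hu

/-- Every conjugate of `t` passes the test. -/
theorem Enum.OK.all [Finite G] {E : Enum} {test : (ℕ → ℕ) → Bool} {N kl kh c0 : ℕ}
    (h : E.OK A.app test 0 N kl kh) (hinv : ∀ a, A.gen (E.inv a) = (A.gen a)⁻¹) (hY : ∀ y ∈ E.Y, A.ok y)
    (hc : c0 ≤ Nat.card (Subgroup.centralizer {A.gen E.t})) (hN : Nat.card G ≤ N * c0) (g : G) :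
    ∃ f, A.Rep (g * A.gen E.t * g⁻¹) f ∧ test f = true := by
  obtain ⟨u, hu, hu2⟩ := h.exists_inj hinv hY
  have hb : Function.Bijective fun i => (u i : G ⧸ Subgroup.centralizer {A.gen E.t}) := by
    apply (Nat.bijective_iff_injective_and_card _).2
    refine ⟨hu, le_antisymm (Nat.card_le_card_of_injective _ hu) ?_⟩
    rw [Subgroup.card_eq_card_quotient_mul_card_subgroup (Subgroup.centralizer {A.gen E.t})] at hN
    have := le_trans hN (Nat.mul_le_mul_left N hc)
    simpa using Nat.le_of_mul_le_mul_right this Nat.card_pos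
  obtain ⟨i, hi⟩ := hb.2 (g : G ⧸ Subgroup.centralizer {A.gen E.t})
  have h1 : (u i)⁻¹ * g ∈ Subgroup.centralizer {A.gen E.t} := QuotientGroup.eq.1 hi
  rw [Subgroup.mem_centralizer_singleton_iff] at h1
  have h2 : u i * A.gen E.t * (u i)⁻¹ = g * A.gen E.t * g⁻¹ := by
    calc u i * A.gen E.t * (u i)⁻¹ = u i * (A.gen E.t * ((u i)⁻¹ * g)) * g⁻¹ := by group
      _ = _ := by rw [← h1]; group
  exact ⟨_, h2 ▸ hu2 i, (h.mem i (Nat.zero_le _) (by simp)).2.2⟩

/-- The letters of a chain commute with the letter `t`. -/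
noncomputable def commAll (app : ℕ → ℕ → ℕ) (B : List ℕ) (t : ℕ) (L : List Lvl) : Bool :=
  allL (fun l => allL (fun a => eqW app B [a, t] [t, a]) l.S) L

theorem le_card_centralizer [Finite G] {B : List ℕ} (hB : A.IsBase B) {t : ℕ} {L : List Lvl}
    (hC : ChainOK A L []) (h : commAll A.app B t L = true) :
    prodN L ≤ Nat.card (Subgroup.centralizer {A.gen t}) := by
  apply hC.prodN_le_card_of_mem
  intro l hl a ha
  unfold commAll at h
  rw [allL_iff] at h
  have := (allL_iff _ _).1 (h l hl) a ha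
  rw [Subgroup.mem_centralizer_singleton_iff]
  simpa using hB.ev_eq this

theorem Act.ev_ne_of_eqW {B : List ℕ} (hB : ∀ b ∈ B, A.ok b) {v w : List ℕ} (h : eqW A.app B v w = false) :
    ev A.gen v ≠ ev A.gen w := by
  intro e
  have : eqW A.app B v w = true := by
    unfold eqW; rw [allL_iff]
    intro b hb
    rw [beq_iff]
    exact (A.rep_ev v).apply_eq (e ▸ A.rep_ev w) (hB b hb)
  rw [h] at this; exact Bool.false_ne_true this

end

/-- Subgroups of full `p`-power order are conjugate. -/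
theorem exists_conj_of_card {G : Type*} [Group G] [Finite G] {p n : ℕ} (hp : p.Prime) {H K : Subgroup G}
    (hH : Nat.card H = p ^ n) (hK : Nat.card K = p ^ n) (hn : ¬ p ^ (n + 1) ∣ Nat.card G) :
    ∃ g : G, ∀ x ∈ K, g * x * g⁻¹ ∈ H := by
  have := Fact.mk hp
  have h1 : p ^ n ∣ Nat.card G := hH ▸ H.card_subgroup_dvd_card
  have h2 : (Nat.card G).factorization p = n := by
    have h0 : Nat.card G ≠ 0 := Nat.card_pos.ne'
    have a := (hp.pow_dvd_iff_le_factorization h0).1 h1
    have b : ¬ n + 1 ≤ (Nat.card G).factorization p := fun h => hn ((hp.pow_dvd_iff_le_factorization h0).2 h)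
    omega
  let P : Sylow p G := Sylow.ofCard H (by rw [h2, hH])
  let Q : Sylow p G := Sylow.ofCard K (by rw [h2, hK])
  obtain ⟨g, hg⟩ := MulAction.exists_smul_eq G Q P
  refine ⟨g, fun x hx => ?_⟩
  have : g * x * g⁻¹ ∈ (g • Q : Sylow p G) := Subgroup.smul_mem_pointwise_smul x (MulAut.conj g) (Q : Subgroup G) hx
  rw [hg] at this
  exact this

/-- `k` copies of a letter. -/
noncomputable def repL (k a : ℕ) : List ℕ := Nat.rec (motive := fun _ => List ℕ) [] (fun _ ih => a :: ih) k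

theorem ev_repL {G : Type*} [Monoid G] (gen : ℕ → G) (k a : ℕ) : ev gen (repL k a) = gen a ^ k := by
  induction k with
  | zero => simp [repL]
  | succ k ih =>
    have : repL (k + 1) a = a :: repL k a := rfl
    rw [this, ev_cons, ih, pow_succ']

/-- `k` copies of a word. -/
noncomputable def powL (k : ℕ) (v : List ℕ) : List ℕ := Nat.rec (motive := fun _ => List ℕ) [] (fun _ ih => app2 v ih) k

theorem ev_powL {G : Type*} [Monoid G] (gen : ℕ → G) (k : ℕ) (v : List ℕ) : ev gen (powL k v) = ev gen v ^ k := by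
  induction k with
  | zero => simp [powL]
  | succ k ih =>
    have : powL (k + 1) v = app2 v (powL k v) := rfl
    rw [this, app2_eq, ev_append, ih, pow_succ']

/-- The check that every nontrivial power of the letter `a` of order `p` is conjugate to a letter of `AK`. -/
noncomputable def powChk (app : ℕ → ℕ → ℕ) (B : List ℕ) (a p : ℕ) (AK : List ℕ) (NK : List (List ℕ × ℕ)) : Bool :=
  band (eqW app B (repL p a) []) (band (bnot (eqW app B [a] []))
    (allRange (fun k => band (memL (nth NK ([], 0) k).2 AK)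
      (eqW app B (app2 (nth NK ([], 0) k).1 (repL k a)) ((nth NK ([], 0) k).2 :: (nth NK ([], 0) k).1))) 1 (p - 1)))

section
variable {G X : Type*} [Group G] [MulAction G X] [Finite G] {A : Act G X} {B : List ℕ}

theorem aut_pow (hB : A.IsBase B) {a p : ℕ} (hp : p.Prime) (hn : ¬ p ^ 2 ∣ Nat.card G) {AK : List ℕ}
    {NK : List (List ℕ × ℕ)} (h : powChk A.app B a p AK NK = true) (φ : MulAut G) :
    ∃ g : G, ∃ a' ∈ AK, g * φ (A.gen a) * g⁻¹ = A.gen a' := by
  unfold powChk at h
  rw [band_eq, band_eq, bnot_eq, allRange_iff] at h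
  obtain ⟨h1, h2, h3⟩ := h
  have e1 : A.gen a ^ p = 1 := by rw [← ev_repL]; exact hB.ev_eq h1
  have e2 : A.gen a ≠ 1 := by simpa using A.ev_ne_of_eqW hB.1 h2
  have := Fact.mk hp
  have o1 : orderOf (A.gen a) = p := orderOf_eq_prime e1 e2
  have o2 : orderOf (φ (A.gen a)) = p := by rw [MulEquiv.orderOf_eq, o1]
  obtain ⟨g, hg⟩ := exists_conj_of_card (n := 1) hp (H := Subgroup.zpowers (A.gen a))
    (K := Subgroup.zpowers (φ (A.gen a))) (by rw [Nat.card_zpowers, o1, pow_one])
    (by rw [Nat.card_zpowers, o2, pow_one]) hn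
  have hm := hg _ (Subgroup.mem_zpowers _)
  obtain ⟨k, hk⟩ := (mem_powers_iff_mem_zpowers.2 hm)
  have hk : A.gen a ^ k = g * φ (A.gen a) * g⁻¹ := hk
  rw [← pow_mod_orderOf, o1] at hk
  have hk0 : k % p ≠ 0 := by
    intro h0
    rw [h0, pow_zero] at hk
    have : φ (A.gen a) = 1 := by
      have := congrArg (fun z => g⁻¹ * z * g) hk
      simpa [mul_assoc] using this.symm
    exact e2 (by simpa using this)
  have hlt := Nat.mod_lt k hp.pos
  have := h3 (k % p) (by omega) (by omega)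
  rw [band_eq, memL_iff] at this
  have e := hB.ev_eq this.2
  rw [app2_eq, ev_append, ev_repL, ev_cons, hk] at e
  refine ⟨ev A.gen (nth NK ([], 0) (k % p)).1 * g, _, this.1, ?_⟩
  rw [← mul_inv_eq_iff_eq_mul] at e
  rw [← e]; group

/-- The check that the class of the letter `t` (of order `o`) is determined by centralising the letters `S`:
`z` is conjugate to `t` by `v` and commutes with `S`, and every word of `F` is trivial, not of order `o`, or conjugate
to `t` by a word of `U`. -/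
noncomputable def classChk (app : ℕ → ℕ → ℕ) (B : List ℕ) (t o z : ℕ) (v : List ℕ) (S : List ℕ)
    (F U : List (List ℕ)) : Bool :=
  band (eqW app B (repL o t) []) (band (bnot (eqW app B [t] []))
    (band (eqW app B (app2 v [z]) (t :: v)) (band (allL (fun s => eqW app B [s, z] [z, s]) S)
      (allL (fun φ => bor (eqW app B φ []) (bor (bnot (eqW app B (powL o φ) []))
        (anyL (fun u => eqW app B (app2 u φ) (t :: u)) U))) F))))

theorem aut_class (hB : A.IsBase B) {t o z : ℕ} {v S : List ℕ} {F U : List (List ℕ)} {r n : ℕ} (hr : r.Prime)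
    (hS : Nat.card (cl A.gen S) = r ^ n) (hn : ¬ r ^ (n + 1) ∣ Nat.card G)
    (hF : ∀ g ∈ Subgroup.centralizer (cl A.gen S : Set G), ∃ φ ∈ F, g = ev A.gen φ)
    (h : classChk A.app B t o z v S F U = true) (φ : MulAut G) : ∃ g : G, φ (A.gen t) = g * A.gen t * g⁻¹ := by
  unfold classChk at h
  rw [band_eq, band_eq, band_eq, band_eq, bnot_eq, allL_iff, allL_iff] at h
  obtain ⟨h1, h2, h3, h4, h5⟩ := h
  have e1 : A.gen t ^ o = 1 := by rw [← ev_repL]; exact hB.ev_eq h1
  have e2 : A.gen t ≠ 1 := by simpa using A.ev_ne_of_eqW hB.1 h2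
  have e3 := hB.ev_eq h3
  rw [app2_eq, ev_append, ev_cons, ev_cons, ev_nil, mul_one] at e3
  set w := ev A.gen v
  have e3' : A.gen t = w * A.gen z * w⁻¹ := by rw [e3]; group
  have hz : A.gen z ∈ Subgroup.centralizer (cl A.gen S : Set G) := by
    have : cl A.gen S ≤ Subgroup.centralizer {A.gen z} := by
      apply cl_le
      intro s hs
      rw [Subgroup.mem_centralizer_singleton_iff]
      simpa using hB.ev_eq (h4 s hs)
    rw [Subgroup.mem_centralizer_iff]
    intro x hx
    exact Subgroup.mem_centralizer_singleton_iff.1 (this hx)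
  obtain ⟨g, hg⟩ := exists_conj_of_card hr (H := (cl A.gen S).map φ.toMonoidHom) (K := cl A.gen S)
    (by rw [Subgroup.card_map_of_injective φ.injective, hS]) hS hn
  have hy : g⁻¹ * φ (A.gen z) * g ∈ Subgroup.centralizer (cl A.gen S : Set G) := by
    rw [Subgroup.mem_centralizer_iff]
    intro x hx
    obtain ⟨x', hx', e⟩ := hg x hx
    have e : φ x' = g * x * g⁻¹ := e
    have c := congrArg φ (Subgroup.mem_centralizer_iff.1 hz x' hx')
    rw [map_mul, map_mul, e] at c
    calc x * (g⁻¹ * φ (A.gen z) * g) = g⁻¹ * (g * x * g⁻¹ * φ (A.gen z)) * g := by group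
      _ = _ := by rw [c]; group
  obtain ⟨ψ, hψ, e4⟩ := hF _ hy
  have e5 : φ (A.gen t) = (φ w * g) * ev A.gen ψ * (φ w * g)⁻¹ := by
    rw [← e4, e3', map_mul, map_mul, map_inv]; group
  have := h5 ψ hψ
  rw [bor_eq, bor_eq, bnot_eq, anyL_iff] at this
  rcases this with h6 | h6 | ⟨u, -, h6⟩
  · exfalso
    have := hB.ev_eq h6
    rw [this] at e5
    exact e2 (by simpa using e5)
  · exfalso
    apply A.ev_ne_of_eqW hB.1 h6
    rw [ev_powL, ev_nil]
    have : φ (A.gen t) ^ o = 1 := by rw [← map_pow, e1, map_one]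
    rw [e5, conj_pow] at this
    exact conj_eq_one_iff.1 this
  · have := hB.ev_eq h6
    rw [app2_eq, ev_append, ev_cons] at this
    refine ⟨φ w * g * (ev A.gen u)⁻¹, ?_⟩
    have e6 : ev A.gen ψ = (ev A.gen u)⁻¹ * A.gen t * ev A.gen u := by rw [mul_assoc, ← this]; group
    rw [e5, e6]; group

end

/-- A word in two letters: `0` stands for `x`, everything else for `y`. -/
def ev2 {G : Type*} [Monoid G] (x y : G) (ρ : List ℕ) : G := ev (fun l => if l = 0 then x else y) ρ

/-- Substitution of letters in a word in two letters. -/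
noncomputable def inst2 (a t : ℕ) (ρ : List ℕ) : List ℕ :=
  List.rec (motive := fun _ => List ℕ) []
    (fun l _ ih => Bool.rec (motive := fun _ => ℕ) t a (Nat.beq l 0) :: ih) ρ

theorem ev_inst2 {G : Type*} [Monoid G] (gen : ℕ → G) (a t : ℕ) (ρ : List ℕ) :
    ev gen (inst2 a t ρ) = ev2 (gen a) (gen t) ρ := by
  induction ρ with
  | nil => rfl
  | cons l ρ ih =>
    have e : inst2 a t (l :: ρ) = Bool.rec (motive := fun _ => ℕ) t a (Nat.beq l 0) :: inst2 a t ρ := rfl
    unfold ev2 at *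
    rw [e, ev_cons, ev_cons, ih]
    cases l <;> simp [Nat.beq]

theorem conj_ev2 {G : Type*} [Group G] (φ : G →* G) (x y : G) (ρ : List ℕ) :
    φ (ev2 x y ρ) = ev2 (φ x) (φ y) ρ := by
  unfold ev2; rw [map_ev]; congr 1; funext l; split_ifs <;> rfl

/-- The test of a candidate image `f` of `t`: for each candidate image `a'` of `a`, a relator of `T2` fails, or the pair
is conjugate to one of the standard pairs `Sig` by a word of `U`. -/
noncomputable def outTest (app : ℕ → ℕ → ℕ) (B AK : List ℕ) (T2 : List (List ℕ × ℕ)) (Sig : List (ℕ × ℕ))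
    (U : List (List ℕ)) (f : ℕ → ℕ) : Bool :=
  allL (fun a' => bor
    (anyL (fun q => bnot (Nat.beq
      (evp (fun l x => Bool.rec (motive := fun _ => ℕ) (f x) (app a' x) (Nat.beq l 0)) q.1 q.2) q.2)) T2)
    (anyL (fun s => anyL (fun u => band (eqW app B (a' :: u) (app2 u [s.1]))
      (allL (fun b => Nat.beq (f (evp app u b)) (evp app u (app s.2 b))) B)) U) Sig)) AK

section
variable {G X : Type*} [Group G] [MulAction G X] {A : Act G X} {B : List ℕ}

theorem rep_ev2 {x y : G} {f g : ℕ → ℕ} (hf : A.Rep x f) (hg : A.Rep y g) (ρ : List ℕ) :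
    A.Rep (ev2 x y ρ) (evp (fun l z => Bool.rec (motive := fun _ => ℕ) (g z) (f z) (Nat.beq l 0)) ρ) := by
  apply rep_ev_of
  intro l _
  cases l
  · exact hf
  · exact hg

/-- The relators of `T2` hold for the letters `a`, `t`, and the test points are points. -/
noncomputable def relChk (app : ℕ → ℕ → ℕ) (B : List ℕ) (a t : ℕ) (T2 : List (List ℕ × ℕ)) : Bool :=
  allL (fun q => eqW app B (inst2 a t q.1) []) T2

theorem aut_pair (hB : A.IsBase B) {a t : ℕ} {AK : List ℕ} {T2 : List (List ℕ × ℕ)} {Sig : List (ℕ × ℕ)}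
    {U : List (List ℕ)} (hrel : relChk A.app B a t T2 = true) (hok : ∀ y ∈ T2.map Prod.snd, A.ok y)
    (hA : ∀ φ : MulAut G, ∃ g : G, ∃ a' ∈ AK, g * φ (A.gen a) * g⁻¹ = A.gen a')
    (hT : ∀ φ : MulAut G, ∃ g : G, φ (A.gen t) = g * A.gen t * g⁻¹)
    (hall : ∀ g : G, ∃ f, A.Rep (g * A.gen t * g⁻¹) f ∧ outTest A.app B AK T2 Sig U f = true) (φ : MulAut G) :
    ∃ s ∈ Sig, ∃ g : G, φ (A.gen a) = g * A.gen s.1 * g⁻¹ ∧ φ (A.gen t) = g * A.gen s.2 * g⁻¹ := by
  obtain ⟨g, a', ha', e1⟩ := hA φ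
  obtain ⟨h, e2⟩ := hT φ
  obtain ⟨f, hf, ht⟩ := hall (g * h)
  have e3 : g * h * A.gen t * (g * h)⁻¹ = g * φ (A.gen t) * g⁻¹ := by rw [e2]; group
  rw [e3] at hf
  unfold outTest at ht
  rw [allL_iff] at ht
  have ht := ht a' ha'
  rw [bor_eq, anyL_iff, anyL_iff] at ht
  rcases ht with ⟨q, hq, ht⟩ | ⟨s, hs, ht⟩
  · exfalso
    rw [bnot_eq, beq_false_iff] at ht
    refine (rep_ev2 (A.rep_gen a') hf q.1).ne A.rep_id (hok _ (List.mem_map_of_mem hq)) ht ?_
    unfold relChk at hrel
    rw [allL_iff] at hrel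
    have := hB.ev_eq (hrel q hq)
    rw [ev_inst2, ev_nil] at this
    have c := conj_ev2 ((MulAut.conj g).toMonoidHom.comp φ.toMonoidHom) (A.gen a) (A.gen t) q.1
    rw [this, map_one] at c
    rw [← e1]; exact c.symm
  · rw [anyL_iff] at ht
    obtain ⟨u, -, ht⟩ := ht
    rw [band_eq, allL_iff] at ht
    have c1 := hB.ev_eq ht.1
    rw [app2_eq, ev_append, ev_cons, ev_cons, ev_nil, mul_one, ← e1] at c1
    have c2 := Act.Rep.eq_of_base hB (hf.comp (A.rep_ev u)) ((A.rep_ev u).comp (A.rep_gen s.2))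
      (fun b hb => (beq_iff _ _).1 (ht.2 b hb))
    refine ⟨s, hs, g⁻¹ * ev A.gen u, ?_, ?_⟩
    · calc φ (A.gen a) = g⁻¹ * (g * φ (A.gen a) * g⁻¹ * ev A.gen u) * (ev A.gen u)⁻¹ * g := by group
        _ = _ := by rw [c1]; group
    · calc φ (A.gen t) = g⁻¹ * (g * φ (A.gen t) * g⁻¹ * ev A.gen u) * (ev A.gen u)⁻¹ * g := by group
        _ = _ := by rw [c2]; group

end

section Out
variable {G : Type*} [Group G]

theorem aut_ext_of_cl {gen : ℕ → G} {a t : ℕ} (h : cl gen [a, t] = ⊤) {φ ψ : MulAut G}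
    (h1 : φ (gen a) = ψ (gen a)) (h2 : φ (gen t) = ψ (gen t)) : φ = ψ := by
  have : φ.toMonoidHom = ψ.toMonoidHom := by
    apply MonoidHom.eq_of_eqOn_dense h
    rintro _ ⟨b, hb, rfl⟩
    simp only [List.mem_cons, List.not_mem_nil, or_false, Set.mem_ofPred_eq] at hb
    rcases hb with rfl | rfl
    · exact h1
    · exact h2
  ext x
  exact DFunLike.congr_fun this x

theorem card_out_eq_one {gen : ℕ → G} {a t : ℕ} (h : cl gen [a, t] = ⊤)
    (H : ∀ φ : MulAut G, ∃ s ∈ [(a, t)], ∃ g : G, φ (gen a) = g * gen s.1 * g⁻¹ ∧ φ (gen t) = g * gen s.2 * g⁻¹) :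
    Nat.card (Out G) = 1 := by
  have : Inn G = ⊤ := by
    rw [eq_top_iff]
    intro φ _
    obtain ⟨s, hs, g, h1, h2⟩ := H φ
    rw [List.mem_singleton] at hs
    subst hs
    exact ⟨g, (aut_ext_of_cl h h1 h2).symm⟩
  show (Inn G).index = 1
  rw [this, Subgroup.index_top]

theorem card_out_eq_two {gen : ℕ → G} {a t x y : ℕ} (h : cl gen [a, t] = ⊤) (σ : MulAut G)
    (hx : σ (gen a) = gen x) (hy : σ (gen t) = gen y)
    (hσ : ∀ g : G, g * gen a = gen x * g → g * gen t = gen y * g → False)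
    (H : ∀ φ : MulAut G, ∃ s ∈ [(a, t), (x, y)], ∃ g : G,
      φ (gen a) = g * gen s.1 * g⁻¹ ∧ φ (gen t) = g * gen s.2 * g⁻¹) :
    Nat.card (Out G) = 2 := by
  have hn : σ ∉ Inn G := by
    rintro ⟨g, hg⟩
    apply hσ g
    · rw [← hx, ← hg]; simp
    · rw [← hy, ← hg]; simp
  have h1 : ((1 : MulAut G) : Out G) ≠ (σ : Out G) := by
    intro e
    exact hn (by simpa using QuotientGroup.eq.1 e)
  rw [Nat.card_eq_two_iff]
  refine ⟨_, _, h1, ?_⟩
  rw [Set.eq_univ_iff_forall]
  intro q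
  obtain ⟨φ, rfl⟩ := QuotientGroup.mk_surjective q
  obtain ⟨s, hs, g, e1, e2⟩ := H φ
  simp only [List.mem_cons, List.not_mem_nil, or_false] at hs
  rcases hs with rfl | rfl
  · left
    have : φ = MulAut.conj g := aut_ext_of_cl h e1 e2
    rw [eq_comm, QuotientGroup.eq, this]
    exact ⟨g, by simp⟩
  · right
    have : φ = MulAut.conj g * σ := aut_ext_of_cl h (by simp [e1, hx]) (by simp [e2, hy])
    rw [Set.mem_singleton_iff, this, QuotientGroup.mk_mul]
    have : ((MulAut.conj g : MulAut G) : Out G) = 1 := (QuotientGroup.eq_one_iff _).2 ⟨g, rfl⟩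
    rw [this, one_mul]

theorem card_out_congr {H : Type*} [Group H] (e : G ≃* H) : Nat.card (Out G) = Nat.card (Out H) := by
  refine Nat.card_congr (QuotientGroup.congr (Inn G) (Inn H) (MulAut.congr e) ?_).toEquiv
  ext φ
  constructor
  · rintro ⟨_, ⟨g, rfl⟩, rfl⟩
    exact ⟨e g, by ext x; simp⟩
  · rintro ⟨h, rfl⟩
    exact ⟨MulAut.conj (e.symm h), ⟨_, rfl⟩, by ext x; simp⟩

end Out

/-- The pairs of two-letter words instantiated at `(a, t)` and at `(x, y)`. -/
noncomputable def pairQ (a t x y : ℕ) (Ws : List (List ℕ)) : List (List ℕ × List ℕ) :=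
  List.rec (motive := fun _ => List (List ℕ × List ℕ)) [] (fun v _ ih => (inst2 a t v, inst2 x y v) :: ih) Ws

theorem mem_pairQ {a t x y : ℕ} {Ws : List (List ℕ)} {p : List ℕ × List ℕ} (h : p ∈ pairQ a t x y Ws) :
    ∃ v, p = (inst2 a t v, inst2 x y v) := by
  induction Ws with
  | nil => simp [pairQ] at h
  | cons v Ws ih =>
    have e : pairQ a t x y (v :: Ws) = (inst2 a t v, inst2 x y v) :: pairQ a t x y Ws := rfl
    rw [e, List.mem_cons] at h
    rcases h with rfl | h
    · exact ⟨v, rfl⟩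
    · exact ih h

/-- No element conjugates the pair `(a, t)` to the pair `(x, y)`. -/
theorem not_conj_pair {G X : Type*} [Group G] [MulAction G X] [Finite G] {A : Act G X} {l : Lvl} {L : List Lvl}
    (hC : ChainOK A (l :: L) []) (hN : Nat.card G ≤ prodN (l :: L)) {B : List ℕ} (hB : A.IsBase B)
    {a t x y : ℕ} {Q Rf : List (List ℕ)}
    (hQ : eqL (trSources A.app (pairQ a t x y Q) l.b) (bases (l :: L)) = true)
    (h : trChk A.app l L B (pairQ a t x y Q) (pairQ a t x y Rf) [] 0 l.N = true) (g : G)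
    (h1 : g * A.gen a = A.gen x * g) (h2 : g * A.gen t = A.gen y * g) : False := by
  obtain ⟨φ, hφ, -⟩ := transporter hC hN hB hQ h g (by
    intro p hp
    obtain ⟨v, rfl⟩ : ∃ v, p = (inst2 a t v, inst2 x y v) := by
      rcases hp with hp | hp <;> exact mem_pairQ hp
    simp only [ev_inst2]
    have c := conj_ev2 (MulAut.conj g).toMonoidHom (A.gen a) (A.gen t) v
    have e1 : (MulAut.conj g).toMonoidHom (A.gen a) = A.gen x := by simp [h1]
    have e2 : (MulAut.conj g).toMonoidHom (A.gen t) = A.gen y := by simp [h2]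
    rw [e1, e2] at c
    rw [← c]; simp)
  simp at hφ

/-- Substitution of words for letters. -/
noncomputable def substW (img : ℕ → List ℕ) (v : List ℕ) : List ℕ :=
  List.rec (motive := fun _ => List ℕ) [] (fun a _ ih => app2 (img a) ih) v

theorem ev_substW {G : Type*} [Monoid G] (gen : ℕ → G) (img : ℕ → List ℕ) (v : List ℕ) :
    ev gen (substW img v) = ev (fun a => ev gen (img a)) v := by
  induction v with
  | nil => rfl
  | cons a v ih =>
    have e : substW img (a :: v) = app2 (img a) (substW img v) := rfl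
    rw [e, app2_eq, ev_append, ih, ev_cons]

/-- An automorphism from a certified presentation: the letters of `S` go to the words `img`, the relators are
preserved, and `a`, `t` are images of the words `va`, `vt` in `S`. -/
theorem exists_aut {G X : Type*} [Group G] [MulAction G X] [Finite G] {A : Act G X} {B : List ℕ} (hB : A.IsBase B)
    {R : List (List ℕ)} {S : List ℕ} {N : ℕ} (hb : Bounds R S N) (hG : ∀ r ∈ R, ev A.gen r = 1)
    (hS : cl A.gen S = ⊤) (hN : N ≤ Nat.card G) {img : ℕ → List ℕ}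
    (hR : allL (fun r => eqW A.app B (substW img r) []) R = true) {a t : ℕ} (hat : cl A.gen [a, t] = ⊤)
    {va vt : List ℕ} (hv : lettersIn S [va, vt] = true) (ha : eqW A.app B (substW img va) [a] = true)
    (ht : eqW A.app B (substW img vt) [t] = true) :
    ∃ σ : MulAut G, ∀ s ∈ S, σ (A.gen s) = ev A.gen (img s) := by
  rw [allL_iff] at hR
  obtain ⟨f, hf⟩ := hb.lift hG hS hN (fun a => ev A.gen (img a))
    (fun r hr => by rw [← ev_substW]; exact hB.ev_eq (hR r hr))
  rw [lettersIn_iff] at hv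
  have key : ∀ v : List ℕ, (∀ s ∈ v, s ∈ S) → f (ev A.gen v) = ev A.gen (substW img v) := by
    intro v hv
    rw [map_ev, ev_substW]
    exact ev_congr _ fun s hs => hf s (hv s hs)
  have hsurj : Function.Surjective f := by
    rw [← MonoidHom.range_eq_top, eq_top_iff, ← hat]
    apply cl_le
    intro s hs
    simp only [List.mem_cons, List.not_mem_nil, or_false] at hs
    rcases hs with rfl | rfl
    · exact ⟨_, by rw [key va (hv va (by simp)), hB.ev_eq ha]; simp⟩
    · exact ⟨_, by rw [key vt (hv vt (by simp)), hB.ev_eq ht]; simp⟩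
  exact ⟨MulEquiv.ofBijective f (Finite.surjective_iff_bijective.1 hsurj), hf⟩

end Cfsg.Agent.CG
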