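import Cfsg.Agent.Lib.CG.Basic

/-! Permutation groups given by tables; letters defined by a straight-line program. -/

set_option autoImplicit false

namespace Cfsg.Agent.CG

/-- Evaluate `y` to a numeral before passing it on. -/
noncomputable def force {α : Type} (y : ℕ) (f : ℕ → α) : α :=
  Nat.rec (motive := fun _ => α) (f 0) (fun n _ => f (Nat.succ n)) y

@[simp] theorem force_eq {α : Type} (y : ℕ) (f : ℕ → α) : force y f = f y := by
  cases y <;> rfl

/-- Compile a word into a function once, then continue with it. -/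
noncomputable def comp {α : Type} (app : ℕ → ℕ → ℕ) (w : List ℕ) (k : (ℕ → ℕ) → α) : α :=
  List.rec (motive := fun _ => ((ℕ → ℕ) → α) → α) (fun k => k (fun x => x))
    (fun a _ ih k => ih (fun f => k (fun x => app a (f x)))) w k

@[simp] theorem comp_eq {α : Type} (app : ℕ → ℕ → ℕ) (w : List ℕ) (k : (ℕ → ℕ) → α) :
    comp app w k = k (evp app w) := by
  induction w generalizing k with
  | nil => rfl
  | cons a w ih =>
    have : comp app (a :: w) k = comp app w (fun f => k (fun x => app a (f x))) := rfl
    rw [this, ih]; rfl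

theorem allRange_zero (p : ℕ → Bool) (lo : ℕ) : allRange p lo 0 = true := rfl

theorem allRange_snoc {p : ℕ → Bool} {lo c : ℕ} (h1 : allRange p lo c = true) (h2 : p (lo + c) = true) :
    allRange p lo (c + 1) = true := by
  have : allRange p lo (c + 1) = band (p (lo + c)) (allRange p lo c) := rfl
  rw [this, band_eq]; exact ⟨h2, h1⟩

theorem allL_nil {α : Type} (p : α → Bool) : allL p [] = true := rfl

theorem allL_cons {α : Type} {p : α → Bool} {a : α} {l : List α} (h1 : p a = true) (h2 : allL p l = true) :
    allL p (a :: l) = true := by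
  have : allL p (a :: l) = band (p a) (allL p l) := rfl
  rw [this, band_eq]; exact ⟨h1, h2⟩

/-- Table lookup: the field of `T` at bit position `x`, cut by the mask `M`. -/
abbrev look (M T x : ℕ) : ℕ := Nat.land (Nat.shiftRight T x) M

section Perm
variable (n w : ℕ) [NeZero n] (app : ℕ → ℕ → ℕ)

/-- The codes of the points of `Fin n`: the multiples `w * j`, `j < n`. -/
def okc (n w x : ℕ) : Prop := ∃ j, j < n ∧ x = w * j

/-- The point named by a code. -/
def ptc (x : ℕ) : Fin n := Fin.ofNat n (x / w)

open Classical in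
/-- The permutation of `Fin n` computed by the letter `a` (the identity if that map is not bijective). -/
noncomputable def permOf (a : ℕ) : Equiv.Perm (Fin n) :=
  if h : Function.Bijective (fun j : Fin n => ptc n w (app a (w * j))) then Equiv.ofBijective _ h else 1

/-- The letter `a` is computed correctly on all codes. -/
def GoodL (a : ℕ) : Prop :=
  ∀ x, okc n w x → okc n w (app a x) ∧ permOf n w app a (ptc n w x) = ptc n w (app a x)

variable {n w}

theorem ptc_mul (hw : 0 < w) {j : ℕ} (hj : j < n) : ptc n w (w * j) = ⟨j, hj⟩ := by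
  apply Fin.ext
  simp [ptc, Fin.ofNat, Nat.mul_div_cancel_left _ hw, Nat.mod_eq_of_lt hj]

theorem ptc_mul' (hw : 0 < w) (j : Fin n) : ptc n w (w * j) = j := ptc_mul hw j.2

omit [NeZero n] in
theorem okc_mul (j : Fin n) : okc n w (w * j) := ⟨j, j.2, rfl⟩

theorem ptc_inj (hw : 0 < w) {x y : ℕ} (hx : okc n w x) (hy : okc n w y) (h : ptc n w x = ptc n w y) :
    x = y := by
  obtain ⟨i, hi, rfl⟩ := hx
  obtain ⟨j, hj, rfl⟩ := hy
  rw [ptc_mul hw hi, ptc_mul hw hj] at h
  simp only [Fin.mk.injEq] at h
  rw [h]

variable {app}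

theorem goodL_of_eq (hw : 0 < w) {a : ℕ} (σ : Equiv.Perm (Fin n))
    (h : ∀ j : Fin n, okc n w (app a (w * j)) ∧ ptc n w (app a (w * j)) = σ j) :
    GoodL n w app a ∧ permOf n w app a = σ := by
  have e : (fun j : Fin n => ptc n w (app a (w * j))) = σ := funext fun j => (h j).2
  have hb : Function.Bijective (fun j : Fin n => ptc n w (app a (w * j))) := e ▸ σ.bijective
  have e2 : permOf n w app a = σ := by
    unfold permOf; rw [dif_pos hb]; ext j; simp [(h j).2]
  refine ⟨?_, e2⟩
  rintro x ⟨j, hj, rfl⟩
  refine ⟨(h ⟨j, hj⟩).1, ?_⟩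
  rw [e2, ptc_mul hw hj]; exact (h ⟨j, hj⟩).2.symm

/-- The check that a letter permutes the codes, with `a'` as a left inverse. -/
noncomputable def chkBase (n w : ℕ) (app : ℕ → ℕ → ℕ) (a a' : ℕ) (j : ℕ) : Bool :=
  force (app a (Nat.mul w j)) fun y =>
    band (Nat.beq (Nat.mod y w) 0) (band (blt y (Nat.mul w n)) (Nat.beq (app a' y) (Nat.mul w j)))

theorem goodL_of_chkBase (hw : 0 < w) {a a' : ℕ} (h : allLt (chkBase n w app a a') n = true) :
    GoodL n w app a := by
  rw [allLt_iff] at h
  have h1 : ∀ j : Fin n, okc n w (app a (w * j)) ∧ app a' (app a (w * j)) = w * j := by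
    intro j
    have := h j j.2
    unfold chkBase at this
    rw [force_eq, band_eq, band_eq, beq_iff, blt_iff, beq_iff] at this
    obtain ⟨h1, h2, h3⟩ := this
    refine ⟨?_, h3⟩
    obtain ⟨c, hc⟩ := Nat.dvd_of_mod_eq_zero h1
    refine ⟨c, ?_, hc⟩
    have h2' : w * c < w * n := by rw [← hc]; exact h2
    exact Nat.lt_of_mul_lt_mul_left h2'
  have hinj : Function.Injective (fun j : Fin n => ptc n w (app a (w * j))) := by
    intro i j hij
    have := ptc_inj hw (h1 i).1 (h1 j).1 hij
    have e : w * (i : ℕ) = w * j := by rw [← (h1 i).2, this, (h1 j).2]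
    exact Fin.ext (Nat.eq_of_mul_eq_mul_left hw e)
  have hb := Finite.injective_iff_bijective.1 hinj
  exact (goodL_of_eq hw (Equiv.ofBijective _ hb) (fun j => ⟨(h1 j).1, rfl⟩)).1

theorem evp_good {v : List ℕ} (hv : ∀ a ∈ v, GoodL n w app a) {x : ℕ} (hx : okc n w x) :
    okc n w (evp app v x) ∧ ev (permOf n w app) v (ptc n w x) = ptc n w (evp app v x) := by
  induction v with
  | nil => exact ⟨hx, rfl⟩
  | cons a v ih =>
    obtain ⟨h1, h2⟩ := ih (fun b hb => hv b (by simp [hb]))
    obtain ⟨h3, h4⟩ := hv a (by simp) _ h1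
    refine ⟨h3, ?_⟩
    rw [ev_cons, Equiv.Perm.mul_apply, h2, h4, evp_cons]

/-- The check, on the points `lo ≤ j < lo + cnt`, that the letter `a` is the word `s.2` (if `s.1` is false) or
its inverse (if `s.1` is true). -/
noncomputable def chkDef (w : ℕ) (app : ℕ → ℕ → ℕ) (a : ℕ) (s : Bool × List ℕ) (lo cnt : ℕ) : Bool :=
  comp app s.2 fun f => Bool.rec (motive := fun _ => Bool)
    (allRange (fun j => Nat.beq (app a (Nat.mul w j)) (f (Nat.mul w j))) lo cnt)
    (allRange (fun j => Nat.beq (app a (f (Nat.mul w j))) (Nat.mul w j)) lo cnt) s.1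

omit [NeZero n] in
theorem chkDef_append {a : ℕ} {s : Bool × List ℕ} {lo c d : ℕ} (h1 : chkDef w app a s lo c = true)
    (h2 : chkDef w app a s (lo + c) d = true) : chkDef w app a s lo (c + d) = true := by
  obtain ⟨fl, v⟩ := s
  unfold chkDef at *
  rw [comp_eq] at *
  cases fl
  · exact allRange_append h1 h2
  · exact allRange_append h1 h2

theorem goodL_of_chkDef (hw : 0 < w) {a : ℕ} {s : Bool × List ℕ} (hv : ∀ b ∈ s.2, GoodL n w app b)
    (h : chkDef w app a s 0 n = true) :
    GoodL n w app a ∧ permOf n w app a =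
      (if s.1 then (ev (permOf n w app) s.2)⁻¹ else ev (permOf n w app) s.2) := by
  obtain ⟨fl, v⟩ := s
  unfold chkDef at h
  rw [comp_eq] at h
  cases fl
  · have h : allRange (fun j => Nat.beq (app a (Nat.mul w j)) (evp app v (Nat.mul w j))) 0 n = true := h
    rw [allRange_iff] at h
    apply goodL_of_eq hw
    intro j
    have e : app a (w * j) = evp app v (w * j) := (beq_iff _ _).1 (h j (Nat.zero_le _) (by simp))
    obtain ⟨h1, h2⟩ := evp_good hv (okc_mul (w := w) j)
    rw [e]
    refine ⟨h1, ?_⟩
    rw [← h2, ptc_mul' hw]; rfl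
  · have h : allRange (fun j => Nat.beq (app a (evp app v (Nat.mul w j))) (Nat.mul w j)) 0 n = true := h
    rw [allRange_iff] at h
    apply goodL_of_eq hw
    intro j
    set i : Fin n := (ev (permOf n w app) v)⁻¹ j with hi
    have e : app a (evp app v (w * i)) = w * i := (beq_iff _ _).1 (h i (Nat.zero_le _) (by simp))
    obtain ⟨h1, h2⟩ := evp_good hv (okc_mul (w := w) i)
    have e2 : evp app v (w * i) = w * j := by
      apply ptc_inj hw h1 (okc_mul j)
      rw [← h2, ptc_mul' hw, ptc_mul' hw, hi]; simp
    rw [e2] at e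
    rw [e]
    refine ⟨okc_mul i, ?_⟩
    rw [ptc_mul' hw]; rfl

/-- All letters of a word are below `a`. -/
noncomputable def ltAll (a : ℕ) (v : List ℕ) : Bool := allL (fun b => blt b a) v

/-- The data of a table group: `r` basic letters (each with a partner computing a left inverse), letters
`r ≤ a < k` defined by the program `slp`, all later letters trivial. -/
structure TabOK (n w : ℕ) (app : ℕ → ℕ → ℕ) (r k : ℕ) (partner : ℕ → ℕ) (slp : ℕ → Bool × List ℕ) : Prop where
  w_pos : 0 < w
  base : allRange (fun a => allLt (chkBase n w app a (partner a)) n) 0 r = true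
  defs : allRange (fun a => chkDef w app a (slp a) 0 n) r (k - r) = true
  lt : allRange (fun a => ltAll a (slp a).2) r (k - r) = true
  triv : ∀ a, k ≤ a → app a = app k
  trivk : chkDef w app k (false, []) 0 n = true

variable {r k : ℕ} {partner : ℕ → ℕ} {slp : ℕ → Bool × List ℕ}

/-- The group generated by the basic letters. -/
noncomputable abbrev tabGroup (n w : ℕ) [NeZero n] (app : ℕ → ℕ → ℕ) (r : ℕ) : Subgroup (Equiv.Perm (Fin n)) :=
  cl (permOf n w app) (List.range r)

theorem TabOK.good (h : TabOK n w app r k partner slp) (a : ℕ) :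
    GoodL n w app a ∧ permOf n w app a ∈ tabGroup n w app r ∧
      (r ≤ a → a < k → permOf n w app a =
        (if (slp a).1 then (ev (permOf n w app) (slp a).2)⁻¹ else ev (permOf n w app) (slp a).2)) ∧
      (r ≤ a → k ≤ a → permOf n w app a = 1) := by
  induction a using Nat.strong_induction_on with
  | _ a ih =>
    by_cases h1 : a < r
    · refine ⟨goodL_of_chkBase h.w_pos ((allRange_iff _ _ _).1 h.base a (Nat.zero_le _) (by omega)),
        gen_mem_cl _ (List.mem_range.2 h1), by omega, by omega⟩
    by_cases h2 : a < k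
    · have hlt : ∀ b ∈ (slp a).2, b < a := by
        have := (allRange_iff _ _ _).1 h.lt a (by omega) (by omega)
        unfold ltAll at this
        rw [allL_iff] at this
        exact fun b hb => (blt_iff _ _).1 (this b hb)
      obtain ⟨g1, g2⟩ := goodL_of_chkDef h.w_pos (fun b hb => (ih b (hlt b hb)).1)
        ((allRange_iff _ _ _).1 h.defs a (by omega) (by omega))
      refine ⟨g1, ?_, fun _ _ => g2, by omega⟩
      have hm : ev (permOf n w app) (slp a).2 ∈ tabGroup n w app r :=
        ev_mem _ fun b hb => (ih b (hlt b hb)).2.1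
      rw [g2]; split_ifs
      · exact inv_mem hm
      · exact hm
    · have hk : chkDef w app a (false, []) 0 n = true := by
        have := h.trivk
        unfold chkDef at *
        rw [h.triv a (by omega)]; exact this
      obtain ⟨g1, g2⟩ := goodL_of_chkDef (n := n) h.w_pos (s := (false, [])) (by simp) hk
      have g3 : permOf n w app a = 1 := by simpa using g2
      exact ⟨g1, by rw [g3]; exact one_mem _, by omega, fun _ _ => g3⟩

/-- The coded action of a table group on `Fin n`. -/
noncomputable def TabOK.act (h : TabOK n w app r k partner slp) : Act (tabGroup n w app r) (Fin n) where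
  gen a := ⟨permOf n w app a, (h.good a).2.1⟩
  app := app
  ok := okc n w
  pt := ptc n w
  ok_app a x hx := ((h.good a).1 x hx).1
  smul_pt a x hx := ((h.good a).1 x hx).2
  inj _ _ hx hy e := ptc_inj h.w_pos hx hy e

theorem TabOK.coe_ev (h : TabOK n w app r k partner slp) (v : List ℕ) :
    ((ev h.act.gen v : tabGroup n w app r) : Equiv.Perm (Fin n)) = ev (permOf n w app) v :=
  map_ev h.act.gen (tabGroup n w app r).subtype v

theorem TabOK.cl_eq_top (h : TabOK n w app r k partner slp) : cl h.act.gen (List.range r) = ⊤ := by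
  apply Subgroup.map_injective (tabGroup n w app r).subtype_injective
  rw [map_cl, ← MonoidHom.range_eq_map, Subgroup.range_subtype]; rfl

theorem TabOK.gen_slp (h : TabOK n w app r k partner slp) {a : ℕ} (h1 : r ≤ a) (h2 : a < k) :
    h.act.gen a = (if (slp a).1 then (ev h.act.gen (slp a).2)⁻¹ else ev h.act.gen (slp a).2) := by
  apply Subtype.ext
  have := (h.good a).2.2.1 h1 h2
  split_ifs at this ⊢
  · rw [Subgroup.coe_inv, h.coe_ev]; exact this
  · rw [h.coe_ev]; exact this

theorem TabOK.gen_triv (h : TabOK n w app r k partner slp) {a : ℕ} (h1 : r ≤ a) (h2 : k ≤ a) :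
    h.act.gen a = 1 := Subtype.ext ((h.good a).2.2.2 h1 h2)

/-- Two words agree on the points `lo ≤ j < lo + cnt`. -/
noncomputable def eqAll (w : ℕ) (app : ℕ → ℕ → ℕ) (u v : List ℕ) (lo cnt : ℕ) : Bool :=
  comp app u fun f => comp app v fun g =>
    allRange (fun j => Nat.beq (f (Nat.mul w j)) (g (Nat.mul w j))) lo cnt

omit [NeZero n] in
theorem eqAll_append {u v : List ℕ} {lo c d : ℕ} (h1 : eqAll w app u v lo c = true)
    (h2 : eqAll w app u v (lo + c) d = true) : eqAll w app u v lo (c + d) = true := by
  unfold eqAll at *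
  rw [comp_eq, comp_eq] at *
  exact allRange_append h1 h2

theorem TabOK.ev_eq_of_eqAll (h : TabOK n w app r k partner slp) {u v : List ℕ}
    (e : eqAll w app u v 0 n = true) : ev h.act.gen u = ev h.act.gen v := by
  unfold eqAll at e
  rw [comp_eq, comp_eq, allRange_iff] at e
  apply Subtype.ext
  ext j
  have e1 : evp app u (w * j) = evp app v (w * j) := (beq_iff _ _).1 (e j (Nat.zero_le _) (by simp))
  have h1 := h.act.ev_smul u (x := w * j) (okc_mul j)
  have h2 := h.act.ev_smul v (x := w * j) (okc_mul j)
  have h3 : h.act.pt (w * j) = j := ptc_mul' h.w_pos j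
  rw [h3] at h1 h2
  have : ev h.act.gen u • j = ev h.act.gen v • j := by
    rw [h1, h2]; exact congrArg _ e1
  exact congrArg Fin.val this

/-- A word acts trivially on the points `lo ≤ j < lo + cnt`. -/
noncomputable def oneAll (w : ℕ) (app : ℕ → ℕ → ℕ) (u : List ℕ) (lo cnt : ℕ) : Bool :=
  comp app u fun f => allRange (fun j => Nat.beq (f (Nat.mul w j)) (Nat.mul w j)) lo cnt

omit [NeZero n] in
theorem oneAll_append {u : List ℕ} {lo c d : ℕ} (h1 : oneAll w app u lo c = true)
    (h2 : oneAll w app u (lo + c) d = true) : oneAll w app u lo (c + d) = true := by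
  unfold oneAll at *
  rw [comp_eq] at *
  exact allRange_append h1 h2

theorem TabOK.ev_eq_one_of_oneAll (h : TabOK n w app r k partner slp) {u : List ℕ}
    (e : oneAll w app u 0 n = true) : ev h.act.gen u = 1 := by
  have : eqAll w app u [] 0 n = true := by
    unfold oneAll at e; unfold eqAll; rw [comp_eq] at *; rw [comp_eq]; exact e
  exact h.ev_eq_of_eqAll this

end Perm

/-- The action of letters through a list of tables with a default table. -/
theorem nth_triv {α : Type} (l : List α) (d : α) {a : ℕ} (h : l.length ≤ a) : nth l d a = d := by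
  rw [nth_eq]; simp [List.getD, List.getElem?_eq_none h]

end Cfsg.Agent.CG
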