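import Cfsg.Agent.Lib.CG.TC

/-! Sifting through an exact chain; the search for all elements transporting given elements to given elements. -/

set_option autoImplicit false

namespace Cfsg.Agent.CG

/-- Walk up the Schreier tree from index `i`, composing `f` with the inverse labels. -/
noncomputable def walkF (app : ℕ → ℕ → ℕ) (m : ℕ) (par ilab : ℕ → ℕ) (fuel i : ℕ) (f : ℕ → ℕ)
    (k : (ℕ → ℕ) → Bool) : Bool :=
  Nat.rec (motive := fun _ => ℕ → (ℕ → ℕ) → Bool) (fun _ f => k f)
    (fun _ ih i f => Bool.rec (motive := fun _ => Bool)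
      (force (ilab i) fun a => band (bit m a) (force (par i) fun j => ih j (fun x => app a (f x))))
      (k f) (Nat.beq i 0)) fuel i f

/-- Sift the targets `cs` through the chain. -/
noncomputable def sift (app : ℕ → ℕ → ℕ) (L : List Lvl) (cs : List ℕ) (f : ℕ → ℕ) (k : (ℕ → ℕ) → Bool) : Bool :=
  List.rec (motive := fun _ => List ℕ → (ℕ → ℕ) → Bool) (fun _ f => k f)
    (fun l _ ih cs f => List.rec (motive := fun _ => Bool) false
      (fun c cs' _ => force (f c) fun x => force (l.pos x) fun i =>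
        Bool.rec (motive := fun _ => Bool) true
          (walkF app (maskOf l.S) l.par l.ilab l.dep i f fun f' => band (Nat.beq (f' c) l.b) (ih cs' f'))
          (band (blt i l.N) (Nat.beq (l.code i) x))) cs) L cs f

section
variable {G X : Type*} [Group G] [MulAction G X] {A : Act G X}

/-- The function `f` on codes computes the action of `W`. -/
def Act.Rep (A : Act G X) (W : G) (f : ℕ → ℕ) : Prop := ∀ x, A.ok x → A.ok (f x) ∧ W • A.pt x = A.pt (f x)

theorem Act.rep_id : A.Rep 1 (fun x => x) := fun x hx => ⟨hx, one_smul _ _⟩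

theorem Act.rep_gen (a : ℕ) : A.Rep (A.gen a) (A.app a) := fun x hx => ⟨A.ok_app a x hx, A.smul_pt a x hx⟩

theorem Act.rep_ev (w : List ℕ) : A.Rep (ev A.gen w) (evp A.app w) := fun _ hx => ⟨A.ok_evp w hx, A.ev_smul w hx⟩

theorem Act.Rep.comp {W V : G} {f g : ℕ → ℕ} (h1 : A.Rep W f) (h2 : A.Rep V g) :
    A.Rep (W * V) (fun x => f (g x)) := fun x hx =>
  ⟨(h1 _ (h2 x hx).1).1, by rw [mul_smul, (h2 x hx).2, (h1 _ (h2 x hx).1).2]⟩

theorem Act.Rep.ne {W V : G} {f g : ℕ → ℕ} (h1 : A.Rep W f) (h2 : A.Rep V g) {x : ℕ} (hx : A.ok x)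
    (h : f x ≠ g x) : W ≠ V := by
  rintro rfl
  exact h (A.inj _ _ (h1 x hx).1 (h2 x hx).1 (by rw [← (h1 x hx).2, ← (h2 x hx).2]))

theorem Act.Rep.eq_of_base {B : List ℕ} (hB : A.IsBase B) {W V : G} {f g : ℕ → ℕ} (h1 : A.Rep W f) (h2 : A.Rep V g)
    (h : ∀ b ∈ B, f b = g b) : W = V :=
  hB.eq fun b hb => by rw [(h1 b (hB.1 b hb)).2, (h2 b (hB.1 b hb)).2, h b hb]

theorem Act.Rep.apply_eq {W : G} {f g : ℕ → ℕ} (h1 : A.Rep W f) (h2 : A.Rep W g) {x : ℕ} (hx : A.ok x) :
    f x = g x := by
  by_contra h; exact h1.ne h2 hx h rfl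

theorem walkF_sound {S : List ℕ} {par ilab : ℕ → ℕ} {k : (ℕ → ℕ) → Bool} :
    ∀ (fuel i : ℕ) (f : ℕ → ℕ) (W : G), A.Rep W f → walkF A.app (maskOf S) par ilab fuel i f k = true →
      ∃ U ∈ cl A.gen S, ∃ f', A.Rep (U * W) f' ∧ k f' = true
  | 0, _, f, W, hf, h => ⟨1, one_mem _, f, by rwa [one_mul], h⟩
  | fuel + 1, i, f, W, hf, h => by
    have e : walkF A.app (maskOf S) par ilab (fuel + 1) i f k = Bool.rec (motive := fun _ => Bool)
      (force (ilab i) fun a => band (bit (maskOf S) a) (force (par i) fun j =>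
        walkF A.app (maskOf S) par ilab fuel j (fun x => A.app a (f x)) k)) (k f) (Nat.beq i 0) := rfl
    rw [e] at h
    cases hb : Nat.beq i 0
    · rw [hb] at h
      have h : (force (ilab i) fun a => band (bit (maskOf S) a) (force (par i) fun j =>
        walkF A.app (maskOf S) par ilab fuel j (fun x => A.app a (f x)) k)) = true := h
      rw [force_eq, band_eq, force_eq, bit_maskOf] at h
      obtain ⟨U, hU, f', h1, h2⟩ := walkF_sound fuel _ _ _ ((A.rep_gen (ilab i)).comp hf) h.2
      exact ⟨U * A.gen (ilab i), mul_mem hU (gen_mem_cl _ h.1), f', by rwa [mul_assoc], h2⟩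
    · rw [hb] at h
      exact ⟨1, one_mem _, f, by rwa [one_mul], h⟩

theorem sift_sound {K : Subgroup G} {k : (ℕ → ℕ) → Bool} {g : G} :
    ∀ (L : List Lvl) (fixed cs : List ℕ) (f : ℕ → ℕ) (W : G), ChainOK A L fixed → Exact A K L fixed →
      (∀ l ∈ L, ∀ a ∈ l.S, A.gen a ∈ K) → A.Rep W f → W * g ∈ K → W * g ∈ A.fix fixed →
      List.Forall₂ (fun b c => A.ok c ∧ g • A.pt b = A.pt c) (bases L) cs →
      sift A.app L cs f k = true → ∃ f', A.Rep g⁻¹ f' ∧ k f' = true
  | [], fixed, _, f, W, _, hE, _, hf, h1, h2, _, h => by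
    have : W * g ∈ K ⊓ A.fix fixed := ⟨h1, h2⟩
    rw [show K ⊓ A.fix fixed = ⊥ from hE, Subgroup.mem_bot] at this
    exact ⟨f, by rwa [← eq_inv_of_mul_eq_one_left this], h⟩
  | l :: L, fixed, [], _, _, _, _, _, _, _, _, h3, _ => by simp [bases] at h3
  | l :: L, fixed, c :: cs, f, W, hC, hE, hK, hf, h1, h2, h3, h => by
    have e : sift A.app (l :: L) (c :: cs) f k = force (f c) fun x => force (l.pos x) fun i =>
        Bool.rec (motive := fun _ => Bool) true
          (walkF A.app (maskOf l.S) l.par l.ilab l.dep i f fun f' => band (Nat.beq (f' c) l.b) (sift A.app L cs f' k))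
          (band (blt i l.N) (Nat.beq (l.code i) x)) := rfl
    rw [e, force_eq, force_eq] at h
    have h3' : List.Forall₂ (fun b c => A.ok c ∧ g • A.pt b = A.pt c) (l.b :: bases L) (c :: cs) := h3
    rw [List.forall₂_cons] at h3'
    obtain ⟨⟨hc, hg⟩, h4⟩ := h3'
    obtain ⟨i, hi, hi2⟩ := hE.1 _ ⟨h1, h2⟩
    rw [mul_smul, hg, (hf c hc).2] at hi2
    have e2 : f c = l.code i := A.inj _ _ (hf c hc).1 (hC.1.ok_code i hi) hi2
    have e3 : band (blt (l.pos (f c)) l.N) (Nat.beq (l.code (l.pos (f c))) (f c)) = true := by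
      rw [band_eq, blt_iff, beq_iff, e2, hC.1.pos_code i hi]; exact ⟨hi, rfl⟩
    rw [e3] at h
    obtain ⟨U, hU, f', r1, r2⟩ := walkF_sound _ _ _ _ hf h
    rw [band_eq, beq_iff] at r2
    have hle : cl A.gen l.S ≤ K ⊓ A.fix fixed := cl_le _ (fun a ha => ⟨hK l (by simp) a ha, hC.1.fixes a ha⟩)
    have hU' : U ∈ K ⊓ A.fix fixed := hle hU
    refine sift_sound L (l.b :: fixed) cs f' (U * W) hC.2 hE.2 (fun l' hl' => hK l' (by simp [hl'])) r1 ?_ ?_ h4 r2.2
    · rw [mul_assoc]; exact mul_mem hU'.1 h1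
    · rw [A.mem_fix_cons]
      refine ⟨?_, by rw [mul_assoc]; exact mul_mem hU'.2 h2⟩
      rw [mul_smul, hg, (r1 c hc).2, r2.1]

end

/-- The final test of the transporter search: `f` computes `g⁻¹`. Either `g` is one of the words `F`, or a pair of `Rf`
is not transported. -/
noncomputable def trFin (app : ℕ → ℕ → ℕ) (B : List ℕ) (Rf : List (List ℕ × List ℕ)) (F : List (List ℕ))
    (f : ℕ → ℕ) : Bool :=
  bor (anyL (fun p => anyL (fun y => bnot (Nat.beq (f (evp app p.2 y)) (evp app p.1 (f y)))) B) Rf)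
    (anyL (fun φ => allL (fun y => Nat.beq (f (evp app φ y)) y) B) F)

/-- The images of `c` under the second words. -/
noncomputable def trTargets (app : ℕ → ℕ → ℕ) (Q : List (List ℕ × List ℕ)) (c : ℕ) : List ℕ :=
  List.rec (motive := fun _ => List ℕ) [] (fun p _ ih => evp app p.2 c :: ih) Q

/-- The images of `b` under the first words. -/
noncomputable def trSources (app : ℕ → ℕ → ℕ) (Q : List (List ℕ × List ℕ)) (c : ℕ) : List ℕ :=
  List.rec (motive := fun _ => List ℕ) [] (fun p _ ih => evp app p.1 c :: ih) Q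

/-- The transporter search over the first-level orbit points `lo ≤ i < lo + cnt`. -/
noncomputable def trChk (app : ℕ → ℕ → ℕ) (l : Lvl) (L : List Lvl) (B : List ℕ) (Q Rf : List (List ℕ × List ℕ))
    (F : List (List ℕ)) (lo cnt : ℕ) : Bool :=
  allRange (fun i => force (l.code i) fun c =>
    sift app (l :: L) (trTargets app Q c) (fun x => x) (trFin app B Rf F)) lo cnt

theorem trChk_append {app : ℕ → ℕ → ℕ} {l : Lvl} {L : List Lvl} {B : List ℕ} {Q Rf : List (List ℕ × List ℕ)}
    {F : List (List ℕ)} {lo c d : ℕ} (h1 : trChk app l L B Q Rf F lo c = true)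
    (h2 : trChk app l L B Q Rf F (lo + c) d = true) : trChk app l L B Q Rf F lo (c + d) = true :=
  allRange_append h1 h2

theorem transporter {G X : Type*} [Group G] [MulAction G X] [Finite G] {A : Act G X} {l : Lvl} {L : List Lvl}
    (hC : ChainOK A (l :: L) []) (hN : Nat.card G ≤ prodN (l :: L)) {B : List ℕ} (hB : A.IsBase B)
    {Q Rf : List (List ℕ × List ℕ)} {F : List (List ℕ)}
    (hQ : eqL (trSources A.app Q l.b) (bases (l :: L)) = true)
    (h : trChk A.app l L B Q Rf F 0 l.N = true) (g : G)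
    (hg : ∀ p, p ∈ Q ∨ p ∈ Rf → g * ev A.gen p.1 = ev A.gen p.2 * g) : ∃ φ ∈ F, g = ev A.gen φ := by
  have hE := hC.exact_top hN
  obtain ⟨i, hi, hi2⟩ := hE.1 g ⟨Subgroup.mem_top _, by simp [A.fix_nil]⟩
  unfold trChk at h
  rw [allRange_iff] at h
  have h := h i (Nat.zero_le _) (by omega)
  rw [force_eq] at h
  have hc := hC.1.ok_code i hi
  have hf2 : ∀ Q' : List (List ℕ × List ℕ), (∀ p ∈ Q', g * ev A.gen p.1 = ev A.gen p.2 * g) →
      List.Forall₂ (fun b c => A.ok c ∧ g • A.pt b = A.pt c) (trSources A.app Q' l.b)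
        (trTargets A.app Q' (l.code i)) := by
    intro Q' hQ'
    induction Q' with
    | nil => exact List.Forall₂.nil
    | cons p Q' ih =>
      refine List.Forall₂.cons ⟨A.ok_evp _ hc, ?_⟩ (ih fun q hq => hQ' q (by simp [hq]))
      rw [← A.ev_smul _ hC.1.okb, ← mul_smul, hQ' p (by simp), mul_smul, hi2, A.ev_smul _ hc]
  have h3 := hf2 Q (fun p hp => hg p (Or.inl hp))
  rw [(eqL_iff _ _).1 hQ] at h3
  obtain ⟨f, hf, hk⟩ := sift_sound (l :: L) [] _ _ 1 hC hE (fun _ _ _ _ => Subgroup.mem_top _) A.rep_id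
    (Subgroup.mem_top _) (by simp [A.fix_nil]) h3 h
  unfold trFin at hk
  rw [bor_eq, anyL_iff, anyL_iff] at hk
  rcases hk with ⟨p, hp, hk⟩ | ⟨φ, hφ, hk⟩
  · exfalso
    rw [anyL_iff] at hk
    obtain ⟨y, hy, hk⟩ := hk
    rw [bnot_eq, beq_false_iff] at hk
    refine (hf.comp (A.rep_ev p.2)).ne ((A.rep_ev p.1).comp hf) (hB.1 y hy) hk ?_
    have := hg p (Or.inr hp)
    calc g⁻¹ * ev A.gen p.2 = g⁻¹ * (ev A.gen p.2 * g) * g⁻¹ := by group
      _ = ev A.gen p.1 * g⁻¹ := by rw [← this]; group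
  · refine ⟨φ, hφ, ?_⟩
    rw [allL_iff] at hk
    have := Act.Rep.eq_of_base hB (hf.comp (A.rep_ev φ)) A.rep_id (fun b hb => (beq_iff _ _).1 (hk b hb))
    exact (inv_mul_eq_one.1 this)

/-- All letters of the words of a list of words lie in `S`. -/
noncomputable def lettersIn (S : List ℕ) (Ws : List (List ℕ)) : Bool :=
  force (maskOf S) fun m => allL (fun v => allL (fun a => bit m a) v) Ws

theorem lettersIn_iff {S : List ℕ} {Ws : List (List ℕ)} : lettersIn S Ws = true ↔ ∀ v ∈ Ws, ∀ a ∈ v, a ∈ S := by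
  unfold lettersIn
  rw [force_eq, allL_iff]
  simp only [allL_iff, bit_maskOf]

/-- The diagonal pairs. -/
noncomputable def diagQ (Ws : List (List ℕ)) : List (List ℕ × List ℕ) :=
  List.rec (motive := fun _ => List (List ℕ × List ℕ)) [] (fun v _ ih => (v, v) :: ih) Ws

theorem mem_diagQ {Ws : List (List ℕ)} {p : List ℕ × List ℕ} (h : p ∈ diagQ Ws) : p.1 ∈ Ws ∧ p.2 = p.1 := by
  induction Ws with
  | nil => simp [diagQ] at h
  | cons v Ws ih =>
    have e : diagQ (v :: Ws) = (v, v) :: diagQ Ws := rfl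
    rw [e, List.mem_cons] at h
    rcases h with rfl | h
    · simp
    · exact ⟨by simp [(ih h).1], (ih h).2⟩

/-- The centraliser of the letters `S` is contained in the list `F`. -/
theorem centralizer_subset {G X : Type*} [Group G] [MulAction G X] [Finite G] {A : Act G X} {l : Lvl} {L : List Lvl}
    (hC : ChainOK A (l :: L) []) (hN : Nat.card G ≤ prodN (l :: L)) {B : List ℕ} (hB : A.IsBase B)
    {S : List ℕ} {Q Rf : List (List ℕ)} {F : List (List ℕ)}
    (hS1 : lettersIn S Q = true) (hS2 : lettersIn S Rf = true)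
    (hQ : eqL (trSources A.app (diagQ Q) l.b) (bases (l :: L)) = true)
    (h : trChk A.app l L B (diagQ Q) (diagQ Rf) F 0 l.N = true) (g : G)
    (hg : g ∈ Subgroup.centralizer (cl A.gen S : Set G)) : ∃ φ ∈ F, g = ev A.gen φ := by
  apply transporter hC hN hB hQ h
  rw [lettersIn_iff] at hS1 hS2
  intro p hp
  have : (∀ a ∈ p.1, a ∈ S) ∧ p.2 = p.1 := by
    rcases hp with hp | hp
    · exact ⟨hS1 _ (mem_diagQ hp).1, (mem_diagQ hp).2⟩
    · exact ⟨hS2 _ (mem_diagQ hp).1, (mem_diagQ hp).2⟩
  rw [this.2]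
  exact (Subgroup.mem_centralizer_iff.1 hg _ (ev_mem _ fun a ha => gen_mem_cl _ (this.1 a ha))).symm

/-! ### Adding letters to a coded action on a finite list of codes -/

section Extend
variable {G X : Type*} [Group G] [MulAction G X] (A : Act G X) (k k' : ℕ) (slp : ℕ → Bool × List ℕ)

/-- The elements named by the extended alphabet. -/
noncomputable def extGen (a : ℕ) : G :=
  if a < k then A.gen a else if a < k' then
    (if (slp a).1 then (((slp a).2.attach.map fun b => if h : b.1 < a then extGen b.1 else 1).prod)⁻¹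
      else ((slp a).2.attach.map fun b => if h : b.1 < a then extGen b.1 else 1).prod) else 1
termination_by a

variable {A k k' slp}

theorem extGen_lt {a : ℕ} (h : a < k) : extGen A k k' slp a = A.gen a := by rw [extGen, if_pos h]

theorem extGen_ge {a : ℕ} (h : k ≤ a) (h' : k' ≤ a) : extGen A k k' slp a = 1 := by
  rw [extGen, if_neg (by omega), if_neg (by omega)]

theorem extGen_mid {a : ℕ} (h : k ≤ a) (h' : a < k') (hlt : ∀ b ∈ (slp a).2, b < a) :
    extGen A k k' slp a =
      if (slp a).1 then (ev (extGen A k k' slp) (slp a).2)⁻¹ else ev (extGen A k k' slp) (slp a).2 := by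
  rw [extGen, if_neg (by omega), if_pos h']
  have : ((slp a).2.attach.map fun b => if h : b.1 < a then extGen A k k' slp b.1 else 1) =
      (slp a).2.map (extGen A k k' slp) := by
    rw [← List.attach_map_val (l := (slp a).2) (f := extGen A k k' slp)]
    apply List.map_congr_left
    intro b _
    rw [dif_pos (hlt b.1 b.2)]
  rw [this]; rfl

/-- The data of an extension: the old letters act as before, the letters `k ≤ a < k'` are defined by `slp`, the
later ones are trivial. -/
structure ExtOK (A : Act G X) (n w : ℕ) (app : ℕ → ℕ → ℕ) (k k' : ℕ) (slp : ℕ → Bool × List ℕ) : Prop where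
  ok_iff : ∀ x, A.ok x ↔ okc n w x
  old : ∀ a, a < k → app a = A.app a
  defs : allRange (fun a => chkDef w app a (slp a) 0 n) k (k' - k) = true
  lt : allRange (fun a => ltAll a (slp a).2) k (k' - k) = true
  triv : ∀ a, k' ≤ a → app a = app k'
  trivk : chkDef w app k' (false, []) 0 n = true

variable {n w : ℕ} {app : ℕ → ℕ → ℕ}

theorem rep_ev_of {gen : ℕ → G} {v : List ℕ} (hv : ∀ b ∈ v, A.Rep (gen b) (app b)) :
    A.Rep (ev gen v) (evp app v) := by
  induction v with
  | nil => exact A.rep_id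
  | cons a v ih =>
    rw [ev_cons]
    exact (hv a (by simp)).comp (ih fun b hb => hv b (by simp [hb]))

theorem rep_of_chkDef (hok : ∀ x, A.ok x ↔ okc n w x) {gen : ℕ → G} {a : ℕ} {s : Bool × List ℕ}
    (hv : ∀ b ∈ s.2, A.Rep (gen b) (app b)) (h : chkDef w app a s 0 n = true) :
    A.Rep (if s.1 then (ev gen s.2)⁻¹ else ev gen s.2) (app a) := by
  obtain ⟨fl, v⟩ := s
  have hr := rep_ev_of hv
  unfold chkDef at h
  rw [comp_eq] at h
  cases fl
  · have h : allRange (fun j => Nat.beq (app a (Nat.mul w j)) (evp app v (Nat.mul w j))) 0 n = true := h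
    rw [allRange_iff] at h
    intro x hx
    obtain ⟨j, hj, rfl⟩ := (hok x).1 hx
    have e : app a (w * j) = evp app v (w * j) := (beq_iff _ _).1 (h j (Nat.zero_le _) (by omega))
    rw [e]; exact hr _ hx
  · have h : allRange (fun j => Nat.beq (app a (evp app v (Nat.mul w j))) (Nat.mul w j)) 0 n = true := h
    rw [allRange_iff] at h
    have hfin : Set.Finite {x | A.ok x} := by
      apply (Set.finite_range (fun j : Fin n => w * (j : ℕ))).subset
      intro x hx
      obtain ⟨j, hj, rfl⟩ := (hok x).1 hx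
      exact ⟨⟨j, hj⟩, rfl⟩
    have hmaps : Set.MapsTo (evp app v) {x | A.ok x} {x | A.ok x} := fun x hx => (hr x hx).1
    have hinj : Set.InjOn (evp app v) {x | A.ok x} := by
      intro x hx z hz e
      apply A.inj _ _ hx hz
      have : ev gen v • A.pt x = ev gen v • A.pt z := by rw [(hr x hx).2, (hr z hz).2, e]
      exact smul_left_cancel _ this
    have hsurj := (hfin.injOn_iff_bijOn_of_mapsTo hmaps).1 hinj
    intro x hx
    obtain ⟨z, hz, rfl⟩ := hsurj.2.2 hx
    obtain ⟨j, hj, rfl⟩ := (hok z).1 hz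
    have e : app a (evp app v (w * j)) = w * j := (beq_iff _ _).1 (h j (Nat.zero_le _) (by omega))
    rw [e]
    refine ⟨hz, ?_⟩
    rw [← (hr _ hz).2]; simp

theorem ExtOK.rep (h : ExtOK A n w app k k' slp) (a : ℕ) : A.Rep (extGen A k k' slp a) (app a) := by
  induction a using Nat.strong_induction_on with
  | _ a ih =>
    by_cases h1 : a < k
    · rw [extGen_lt h1, h.old a h1]; exact A.rep_gen a
    by_cases h2 : a < k'
    · have hlt : ∀ b ∈ (slp a).2, b < a := by
        have := (allRange_iff _ _ _).1 h.lt a (by omega) (by omega)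
        unfold ltAll at this
        rw [allL_iff] at this
        exact fun b hb => (blt_iff _ _).1 (this b hb)
      rw [extGen_mid (by omega) h2 hlt]
      exact rep_of_chkDef h.ok_iff (fun b hb => ih b (hlt b hb))
        ((allRange_iff _ _ _).1 h.defs a (by omega) (by omega))
    · rw [extGen_ge (by omega) (by omega), h.triv a (by omega)]
      have := rep_of_chkDef (gen := A.gen) (s := (false, [])) h.ok_iff (by simp) h.trivk
      simpa using this

/-- The extended coded action. -/
noncomputable def ExtOK.act (h : ExtOK A n w app k k' slp) : Act G X where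
  gen := extGen A k k' slp
  app := app
  ok := A.ok
  pt := A.pt
  ok_app a x hx := (h.rep a x hx).1
  smul_pt a x hx := (h.rep a x hx).2
  inj := A.inj

theorem ExtOK.isBase (h : ExtOK A n w app k k' slp) {B : List ℕ} (hB : A.IsBase B) : h.act.IsBase B := hB

theorem ExtOK.gen_lt (h : ExtOK A n w app k k' slp) {a : ℕ} (ha : a < k) : h.act.gen a = A.gen a := extGen_lt ha

end Extend

end Cfsg.Agent.CG
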