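import Cfsg.Agent.Lib.CG.Orbit

/-! Certified coset tables without coincidences (Schreier–Todd–Coxeter chains): upper bounds for orders and
presentations. -/

set_option autoImplicit false

namespace Cfsg.Agent.CG

/-- Binary trees used as lookup tables. -/
inductive Tr (α : Type) : Type
  | leaf (a : α) : Tr α
  | node (l r : Tr α) : Tr α

/-- Lookup by the binary digits of `i`, lowest first. -/
noncomputable def Tr.get {α : Type} (t : Tr α) (i : ℕ) : α :=
  Tr.rec (motive := fun _ => ℕ → α) (fun a _ => a)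
    (fun _ _ ihl ihr i => Bool.rec (motive := fun _ => α) (ihr (Nat.shiftRight i 1)) (ihl (Nat.shiftRight i 1))
      (Nat.beq (Nat.land i 1) 0)) t i

/-- All leaves satisfy `p`. -/
noncomputable def Tr.all {α : Type} (p : α → Bool) (t : Tr α) : Bool :=
  Tr.rec (motive := fun _ => Bool) (fun a => p a) (fun _ _ ihl ihr => band ihl ihr) t

theorem Tr.all_get {α : Type} {p : α → Bool} {t : Tr α} (h : t.all p = true) (i : ℕ) : p (t.get i) = true := by
  induction t generalizing i with
  | leaf a => exact h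
  | node l r ihl ihr =>
    have e : (Tr.node l r).all p = band (l.all p) (r.all p) := rfl
    rw [e, band_eq] at h
    have e2 : (Tr.node l r).get i = Bool.rec (motive := fun _ => α) (r.get (Nat.shiftRight i 1))
      (l.get (Nat.shiftRight i 1)) (Nat.beq (Nat.land i 1) 0) := rfl
    rw [e2]
    cases Nat.beq (Nat.land i 1) 0
    · exact ihr h.2 _
    · exact ihl h.1 _

theorem Tr.all_node {α : Type} {p : α → Bool} {l r : Tr α} (h1 : l.all p = true) (h2 : r.all p = true) :
    (Tr.node l r).all p = true := by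
  have e : (Tr.node l r).all p = band (l.all p) (r.all p) := rfl
  rw [e, band_eq]; exact ⟨h1, h2⟩

/-- A wrapper whose projection makes the kernel evaluate (and remember) its content. -/
structure Wrap (α : Type) : Type where
  val : α

/-- Drop a prefix. -/
noncomputable def dropL (p : ℕ) (l : List ℕ) : List ℕ :=
  Nat.rec (motive := fun _ => List ℕ → List ℕ) (fun l => l)
    (fun _ ih l => List.rec (motive := fun _ => List ℕ) [] (fun _ t _ => ih t) l) p l

/-- Take a prefix. -/
noncomputable def takeL (p : ℕ) (l : List ℕ) : List ℕ :=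
  Nat.rec (motive := fun _ => List ℕ → List ℕ) (fun _ => [])
    (fun _ ih l => List.rec (motive := fun _ => List ℕ) [] (fun a t _ => a :: ih t) l) p l

theorem takeL_append_dropL (p : ℕ) (l : List ℕ) : takeL p l ++ dropL p l = l := by
  induction p generalizing l with
  | zero => rfl
  | succ p ih =>
    cases l with
    | nil => rfl
    | cons a t => exact congrArg (List.cons a) (ih t)

/-- A rule: the word `a :: v` is the rotation at position `p` of relator number `ri`. -/
structure Rule where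
  a : ℕ
  v : List ℕ
  ri : ℕ
  p : ℕ

/-- The check of a rule against the relators, and that its letters lie in the mask `m`. -/
noncomputable def Rule.chk (R : List (List ℕ)) (m : ℕ) (ρ : Rule) : Bool :=
  band (eqL (ρ.a :: ρ.v) (app2 (dropL ρ.p (nth R [ρ.a, ρ.a + 1] ρ.ri)) (takeL ρ.p (nth R [ρ.a, ρ.a + 1] ρ.ri))))
    (band (blt ρ.ri R.length) (allL (fun b => bit m b) ρ.v))

theorem Rule.sound {Γ : Type*} [Group Γ] {y : ℕ → Γ} {R : List (List ℕ)} (hR : ∀ r ∈ R, ev y r = 1) {S : List ℕ}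
    {ρ : Rule} (h : ρ.chk R (maskOf S) = true) : y ρ.a * ev y ρ.v = 1 ∧ ∀ b ∈ ρ.v, b ∈ S := by
  unfold Rule.chk at h
  rw [band_eq, band_eq, eqL_iff, app2_eq, blt_iff, allL_iff] at h
  obtain ⟨h1, h2, h3⟩ := h
  refine ⟨?_, fun b hb => (bit_maskOf _ _).1 (h3 b hb)⟩
  set r := nth R [ρ.a, ρ.a + 1] ρ.ri with hr
  have hm : r ∈ R := by
    rw [hr, nth_eq, List.getD_eq_getElem _ _ h2]; exact List.getElem_mem _
  have h4 := hR r hm
  rw [← takeL_append_dropL ρ.p r, ev_append] at h4
  rw [← ev_cons, h1, ev_append]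
  exact mul_eq_one_comm.1 h4

/-- Follow the word `v` through the table from the coset `x`, using only entries below `e`; compiled once. -/
noncomputable def folW (tb : ℕ → ℕ → ℕ) (M1 : ℕ) (v : List ℕ) : Wrap (ℕ → ℕ → (ℕ → Bool) → Bool) :=
  List.rec (motive := fun _ => ((ℕ → ℕ → (ℕ → Bool) → Bool) → Wrap (ℕ → ℕ → (ℕ → Bool) → Bool)) →
      Wrap (ℕ → ℕ → (ℕ → Bool) → Bool))
    (fun K => K (fun _ x k => k x))
    (fun b _ ih K => ih (fun f => K (fun e x k => f e x (fun z =>
      (fun e' => band (blt e' e) (k (Nat.land e' M1))) (tb b z))))) v Wrap.mk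

/-- The plain recursion computed by `folW`. -/
noncomputable def fol (tb : ℕ → ℕ → ℕ) (M1 : ℕ) : List ℕ → ℕ → ℕ → (ℕ → Bool) → Bool
  | [], _, x, k => k x
  | b :: v, e, x, k => fol tb M1 v e x (fun z => band (blt (tb b z) e) (k (Nat.land (tb b z) M1)))

theorem folW_eq (tb : ℕ → ℕ → ℕ) (M1 : ℕ) (v : List ℕ) : (folW tb M1 v).val = fol tb M1 v := by
  have : ∀ (v : List ℕ) (K : (ℕ → ℕ → (ℕ → Bool) → Bool) → Wrap (ℕ → ℕ → (ℕ → Bool) → Bool)),
      List.rec (motive := fun _ => ((ℕ → ℕ → (ℕ → Bool) → Bool) → Wrap (ℕ → ℕ → (ℕ → Bool) → Bool)) →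
        Wrap (ℕ → ℕ → (ℕ → Bool) → Bool))
      (fun K => K (fun _ x k => k x))
      (fun b _ ih K => ih (fun f => K (fun e x k => f e x (fun z =>
        (fun e' => band (blt e' e) (k (Nat.land e' M1))) (tb b z))))) v K = K (fol tb M1 v) := by
    intro v
    induction v with
    | nil => intro K; rfl
    | cons b v ih => intro K; exact ih _
  unfold folW; rw [this]

/-- One level of the chain: letters `S`, letters `S'` of the subgroup, `N` cosets coded as `W * i`; the entry
`tb a x` holds the target (mask `M1`), the rule number (shift `s1`, mask `Mr`) and, above them, a time stamp;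
`dt x` holds the defining coset (mask `M1`) and letter (shift `s1`) of the coset `x`. -/
structure TCL where
  S : List ℕ
  S' : List ℕ
  N : ℕ
  W : ℕ
  M1 : ℕ
  s1 : ℕ
  Mr : ℕ
  tb : ℕ → ℕ → ℕ
  dt : ℕ → ℕ
  rules : Tr Rule

/-- The compiled rule number `ρ`. -/
noncomputable def ruleW (tb : ℕ → ℕ → ℕ) (M1 : ℕ) (rules : Tr Rule) (ρ : ℕ) :
    ℕ × Wrap (ℕ → ℕ → (ℕ → Bool) → Bool) := ((rules.get ρ).a, folW tb M1 (rules.get ρ).v)

/-- The check of the entry of the letter `a` at the coset number `i`. -/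
noncomputable def entChk (N W M1 s1 Mr : ℕ) (tb : ℕ → ℕ → ℕ) (dt : ℕ → ℕ) (rw : ℕ → ℕ × Wrap (ℕ → ℕ → (ℕ → Bool) → Bool))
    (m' a i : ℕ) : Bool :=
  force (Nat.mul W i) fun x => force (tb a x) fun e => force (Nat.land e M1) fun t =>
    band (Nat.beq (Nat.mod t W) 0) (band (blt t (Nat.mul W N))
      (Nat.rec (motive := fun _ => Bool)
        (band (blt x t) (band (Nat.beq (Nat.land (dt t) M1) x) (Nat.beq (Nat.shiftRight (dt t) s1) a)))
        (fun r _ => Nat.rec (motive := fun _ => Bool)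
          (band (Nat.beq x 0) (band (Nat.beq t 0) (bit m' a)))
          (fun r' _ => band (Nat.beq (rw r').1 a) ((rw r').2.val e t (fun z => Nat.beq z x))) r)
        (Nat.land (Nat.shiftRight e s1) Mr)))

/-- The check of the letter `a` on the cosets `lo ≤ i < lo + cnt`. -/
noncomputable def TCL.chk (l : TCL) (a lo cnt : ℕ) : Bool :=
  force (maskOf l.S') fun m' =>
    allRange (entChk l.N l.W l.M1 l.s1 l.Mr l.tb l.dt (ruleW l.tb l.M1 l.rules) m' a) lo cnt

theorem TCL.chk_append {l : TCL} {a lo c d : ℕ} (h1 : l.chk a lo c = true)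
    (h2 : l.chk a (lo + c) d = true) : l.chk a lo (c + d) = true := by
  unfold TCL.chk at *
  rw [force_eq] at *
  exact allRange_append h1 h2

/-- The cheap part of the check. -/
noncomputable def TCL.head (R : List (List ℕ)) (l : TCL) : Bool :=
  force (maskOf l.S) fun m =>
    band (blt 0 l.N) (band (allL (fun a => bit m a) l.S') (l.rules.all (Rule.chk R m)))

section
variable {Γ : Type*} [Group Γ] (y : ℕ → Γ) (H : Subgroup Γ)

/-- The coset named by a code. -/
noncomputable def TCL.cos (l : TCL) (x : ℕ) : Γ ⧸ H :=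
  if Nat.land (l.dt x) l.M1 < x then y (Nat.shiftRight (l.dt x) l.s1) • l.cos (Nat.land (l.dt x) l.M1)
  else ((1 : Γ) : Γ ⧸ H)
termination_by x

variable {y H}

theorem TCL.cos_zero (l : TCL) : l.cos y H 0 = ((1 : Γ) : Γ ⧸ H) := by
  rw [TCL.cos]; simp

theorem TCL.sound {R : List (List ℕ)} (hR : ∀ r ∈ R, ev y r = 1) (l : TCL) (hH : ∀ a ∈ l.S', y a ∈ H)
    (h1 : l.head R = true) (h2 : allL (fun a => l.chk a 0 l.N) l.S = true) :
    ∀ a ∈ l.S, ∀ x, okc l.N l.W x →
      okc l.N l.W (Nat.land (l.tb a x) l.M1) ∧ y a • l.cos y H x = l.cos y H (Nat.land (l.tb a x) l.M1) := by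
  unfold TCL.head at h1
  rw [force_eq, band_eq, band_eq] at h1
  obtain ⟨-, -, h13⟩ := h1
  rw [allL_iff] at h2
  have key : ∀ e, ∀ a ∈ l.S, ∀ x, okc l.N l.W x → l.tb a x = e →
      okc l.N l.W (Nat.land (l.tb a x) l.M1) ∧ y a • l.cos y H x = l.cos y H (Nat.land (l.tb a x) l.M1) := by
    intro e
    induction e using Nat.strong_induction_on with
    | _ e ih =>
      intro a ha x hx he
      obtain ⟨i, hi, rfl⟩ := hx
      have h := h2 a ha
      unfold TCL.chk at h
      rw [force_eq, allRange_iff] at h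
      have h := h i (Nat.zero_le _) (by omega)
      unfold entChk at h
      rw [force_eq, force_eq, force_eq, band_eq, band_eq, beq_iff, blt_iff] at h
      obtain ⟨t1, t2, t3⟩ := h
      have e0 : Nat.mul l.W i = l.W * i := rfl
      rw [e0] at t1 t2 t3
      have hok : okc l.N l.W (Nat.land (l.tb a (l.W * i)) l.M1) := by
        obtain ⟨c, hc⟩ := Nat.dvd_of_mod_eq_zero t1
        refine ⟨c, ?_, hc⟩
        have h2' : l.W * c < l.W * l.N := by rw [← hc]; exact t2
        exact Nat.lt_of_mul_lt_mul_left h2'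
      refine ⟨hok, ?_⟩
      generalize Nat.land (Nat.shiftRight (l.tb a (l.W * i)) l.s1) l.Mr = ρ at t3
      rcases ρ with _ | _ | r'
      · have t3 : band (blt (l.W * i) (Nat.land (l.tb a (l.W * i)) l.M1))
          (band (Nat.beq (Nat.land (l.dt (Nat.land (l.tb a (l.W * i)) l.M1)) l.M1) (l.W * i))
            (Nat.beq (Nat.shiftRight (l.dt (Nat.land (l.tb a (l.W * i)) l.M1)) l.s1) a)) = true := t3
        rw [band_eq, band_eq, blt_iff, beq_iff, beq_iff] at t3
        conv_rhs => rw [TCL.cos]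
        rw [t3.2.1, t3.2.2, if_pos t3.1]
      · have t3 : band (Nat.beq (l.W * i) 0) (band (Nat.beq (Nat.land (l.tb a (l.W * i)) l.M1) 0)
          (bit (maskOf l.S') a)) = true := t3
        rw [band_eq, band_eq, beq_iff, beq_iff, bit_maskOf] at t3
        rw [t3.2.1, t3.1, l.cos_zero]
        have : y a • ((1 : Γ) : Γ ⧸ H) = ((y a * 1 : Γ) : Γ ⧸ H) := rfl
        rw [this, QuotientGroup.eq]
        simpa using hH a t3.2.2
      · have t3 : band (Nat.beq (l.rules.get r').a a) ((folW l.tb l.M1 (l.rules.get r').v).val (l.tb a (l.W * i))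
          (Nat.land (l.tb a (l.W * i)) l.M1) (fun z => Nat.beq z (l.W * i))) = true := t3
        rw [band_eq, beq_iff, folW_eq] at t3
        obtain ⟨s1, s2⟩ := Rule.sound hR (Tr.all_get h13 r')
        have fo : ∀ (v : List ℕ), (∀ b ∈ v, b ∈ l.S) → ∀ z, okc l.N l.W z → ∀ k : ℕ → Bool,
            fol l.tb l.M1 v e z k = true → ∃ u, okc l.N l.W u ∧ ev y v • l.cos y H z = l.cos y H u ∧ k u = true := by
          intro v
          induction v with
          | nil => intro _ z hz k hk; exact ⟨z, hz, by simp, hk⟩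
          | cons b v ihv =>
            intro hv z hz k hk
            obtain ⟨u, u1, u2, u3⟩ := ihv (fun c hc => hv c (by simp [hc])) z hz _ hk
            rw [band_eq, blt_iff] at u3
            obtain ⟨v1, v2⟩ := ih _ u3.1 b (hv b (by simp)) u u1 rfl
            exact ⟨_, v1, by rw [ev_cons, mul_smul, u2, v2], u3.2⟩
        rw [he] at t3
        obtain ⟨u, -, u2, u3⟩ := fo _ s2 _ (he ▸ hok) _ t3.2
        rw [beq_iff] at u3
        rw [he, ← u3, ← u2, ← mul_smul, ← t3.1, s1, one_smul]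
  exact fun a ha x hx => key _ a ha x hx rfl

open Pointwise in
theorem TCL.orbit_subset {R : List (List ℕ)} (hR : ∀ r ∈ R, ev y r = 1) (l : TCL) (hH : ∀ a ∈ l.S', y a ∈ H)
    (h1 : l.head R = true) (h2 : allL (fun a => l.chk a 0 l.N) l.S = true) :
    ∀ g ∈ cl y l.S, ∃ i, i < l.N ∧ (g : Γ ⧸ H) = l.cos y H (l.W * i) := by
  have hs := l.sound hR hH h1 h2
  have hN : 0 < l.N := by
    unfold TCL.head at h1
    rw [force_eq, band_eq, blt_iff] at h1
    exact h1.1
  set C : Set (Γ ⧸ H) := Set.range (fun i : Fin l.N => l.cos y H (l.W * i)) with hC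
  have hfin : C.Finite := Set.finite_range _
  have hle : cl y l.S ≤ MulAction.stabilizer Γ C := by
    apply cl_le
    intro a ha
    rw [MulAction.mem_stabilizer_set_iff_smul_set_subset hfin]
    rintro _ ⟨_, ⟨i, rfl⟩, rfl⟩
    obtain ⟨⟨j, hj, e⟩, h⟩ := hs a ha _ ⟨i, i.2, rfl⟩
    exact ⟨⟨j, hj⟩, by simp only; rw [h, e]⟩
  intro g hg
  have h0 : ((1 : Γ) : Γ ⧸ H) ∈ C := ⟨⟨0, hN⟩, by simp [l.cos_zero]⟩
  have : g • ((1 : Γ) : Γ ⧸ H) ∈ g • C := Set.smul_mem_smul_set h0
  rw [hle hg] at this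
  obtain ⟨i, hi⟩ := this
  refine ⟨i, i.2, ?_⟩
  simp only at hi
  rw [hi]
  show _ = ((g * 1 : Γ) : Γ ⧸ H)
  rw [mul_one]

theorem finite_card_le_of_cosets {K : Subgroup Γ} (hle : H ≤ K) [Finite H] {N : ℕ} (c : ℕ → Γ ⧸ H)
    (h : ∀ g ∈ K, ∃ i, i < N ∧ (g : Γ ⧸ H) = c i) : Finite K ∧ Nat.card K ≤ N * Nat.card H := by
  choose! f hf1 hf2 using h
  let F : K → Fin N × H := fun g => (⟨f g, hf1 g g.2⟩, ⟨(c (f g)).out⁻¹ * g, by
    rw [← QuotientGroup.eq, QuotientGroup.out_eq', hf2 g g.2]⟩)
  have hF : Function.Injective F := by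
    intro g g' e
    have e1 : f g = f g' := congrArg (fun z => (z.1 : ℕ)) e
    have e2 : (c (f g)).out⁻¹ * g = (c (f g')).out⁻¹ * g' := congrArg (fun z => (z.2 : Γ)) e
    rw [e1] at e2
    exact Subtype.ext (mul_left_cancel e2)
  have _ := hle
  exact ⟨Finite.of_injective F hF, by simpa using Nat.card_le_card_of_injective F hF⟩

theorem TCL.card_le {R : List (List ℕ)} (hR : ∀ r ∈ R, ev y r = 1) (l : TCL)
    (h1 : l.head R = true) (h2 : allL (fun a => l.chk a 0 l.N) l.S = true) [Finite (cl y l.S')] :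
    Finite (cl y l.S) ∧ Nat.card (cl y l.S) ≤ l.N * Nat.card (cl y l.S') := by
  have hle : cl y l.S' ≤ cl y l.S := by
    unfold TCL.head at h1
    rw [force_eq, band_eq, band_eq, allL_iff] at h1
    exact cl_mono y fun a ha => (bit_maskOf _ _).1 (h1.2.1 a ha)
  exact finite_card_le_of_cosets hle (fun i => l.cos y (cl y l.S') (l.W * i))
    (l.orbit_subset hR (fun a ha => gen_mem_cl y ha) h1 h2)

end

/-- The levels fit together: each subgroup list is the letter list of the next level, the last one is `T`. -/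
noncomputable def tcLink (L : List TCL) (T : List ℕ) (S : List ℕ) : Bool :=
  List.rec (motive := fun _ => List ℕ → Bool) (fun S => eqL S T)
    (fun l _ ih S => band (eqL S l.S) (ih l.S')) L S

/-- The product of the indices. -/
noncomputable def prodTC (L : List TCL) : ℕ :=
  List.rec (motive := fun _ => ℕ) 1 (fun l _ ih => Nat.mul l.N ih) L

theorem tc_chain_card_le {Γ : Type*} [Group Γ] {y : ℕ → Γ} {R : List (List ℕ)} (hR : ∀ r ∈ R, ev y r = 1)
    {T : List ℕ} [Finite (cl y T)] :
    ∀ (L : List TCL) (S : List ℕ), tcLink L T S = true → allL (fun l => l.head R) L = true →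
      allL (fun l => allL (fun a => l.chk a 0 l.N) l.S) L = true →
      Finite (cl y S) ∧ Nat.card (cl y S) ≤ prodTC L * Nat.card (cl y T)
  | [], S, h, _, _ => by
    have : S = T := (eqL_iff _ _).1 h
    subst this
    exact ⟨inferInstance, by simp [prodTC]⟩
  | l :: L, S, h, h1, h2 => by
    have e : tcLink (l :: L) T S = band (eqL S l.S) (tcLink L T l.S') := rfl
    rw [e, band_eq, eqL_iff] at h
    rw [allL_iff] at h1 h2
    obtain ⟨i1, i2⟩ := tc_chain_card_le hR L l.S' h.2
      ((allL_iff _ _).2 fun l' hl' => h1 l' (by simp [hl'])) ((allL_iff _ _).2 fun l' hl' => h2 l' (by simp [hl']))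
    obtain ⟨j1, j2⟩ := l.card_le hR (h1 l (by simp)) (h2 l (by simp))
    rw [h.1]
    refine ⟨j1, le_trans j2 ?_⟩
    have : prodTC (l :: L) = l.N * prodTC L := rfl
    rw [this, mul_assoc]
    exact Nat.mul_le_mul_left _ i2

/-- The relators `R` bound the order of the group generated by the letters `S` by `N`, in every group. -/
def Bounds (R : List (List ℕ)) (S : List ℕ) (N : ℕ) : Prop :=
  ∀ (Γ : Type) [Group Γ] (y : ℕ → Γ), (∀ r ∈ R, ev y r = 1) → Finite (cl y S) ∧ Nat.card (cl y S) ≤ N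

theorem bounds_of_chain {R : List (List ℕ)} {L : List TCL} {S : List ℕ} (h : tcLink L [] S = true)
    (h1 : allL (fun l => l.head R) L = true) (h2 : allL (fun l => allL (fun a => l.chk a 0 l.N) l.S) L = true) :
    Bounds R S (prodTC L) := by
  intro Γ _ y hR
  have : Finite (cl y []) := by rw [cl_nil]; infer_instance
  have := tc_chain_card_le hR L S h h1 h2
  rwa [cl_nil, Subgroup.card_bot, mul_one] at this

/-- `Bounds` in every universe. -/
theorem Bounds.univ {R : List (List ℕ)} {S : List ℕ} {N : ℕ} (h : Bounds R S N) {Γ : Type*} [Group Γ]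
    (y : ℕ → Γ) (hR : ∀ r ∈ R, ev y r = 1) : Finite (cl y S) ∧ Nat.card (cl y S) ≤ N := by
  let f : FreeGroup ℕ →* Γ := FreeGroup.lift y
  let y' : ℕ → FreeGroup ℕ ⧸ f.ker := fun a => QuotientGroup.mk (FreeGroup.of a)
  let g : FreeGroup ℕ ⧸ f.ker →* Γ := QuotientGroup.kerLift f
  have hg : Function.Injective g := QuotientGroup.kerLift_injective f
  have hy : (fun a => g (y' a)) = y := by
    funext a; simp [g, y', f]
  obtain ⟨h1, h2⟩ := h _ y' (fun r hr => hg (by rw [map_ev, hy, hR r hr, map_one]))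
  have e : (cl y' S).map g = cl y S := by rw [map_cl, hy]
  have eq := (cl y' S).equivMapOfInjective g hg
  rw [e] at eq
  exact ⟨Finite.of_equiv _ eq.toEquiv, by rw [← Nat.card_congr eq.toEquiv]; exact h2⟩

/-- The universal property of a certified presentation. -/
theorem Bounds.lift {R : List (List ℕ)} {S : List ℕ} {N : ℕ} (h : Bounds R S N) {G : Type*} [Group G]
    {gen : ℕ → G} (hG : ∀ r ∈ R, ev gen r = 1) (hS : cl gen S = ⊤) (hN : N ≤ Nat.card G) {Γ : Type*} [Group Γ]
    (y : ℕ → Γ) (hR : ∀ r ∈ R, ev y r = 1) : ∃ f : G →* Γ, ∀ a ∈ S, f (gen a) = y a := by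
  let z : ℕ → G × Γ := fun a => (gen a, y a)
  have hz : ∀ r ∈ R, ev z r = 1 := by
    intro r hr
    ext
    · exact (map_ev z (MonoidHom.fst G Γ) r).trans (hG r hr)
    · exact (map_ev z (MonoidHom.snd G Γ) r).trans (hR r hr)
  obtain ⟨h1, h2⟩ := h.univ z hz
  let p : cl z S →* G := (MonoidHom.fst G Γ).comp (cl z S).subtype
  have hp : Function.Surjective p := by
    rw [← MonoidHom.range_eq_top, MonoidHom.range_comp, Subgroup.range_subtype, map_cl]
    exact hS
  have hb : Function.Bijective p := by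
    apply (Nat.bijective_iff_surjective_and_card p).2
    exact ⟨hp, le_antisymm (le_trans h2 hN) (Nat.card_le_card_of_surjective p hp)⟩
  let e := MulEquiv.ofBijective p hb
  refine ⟨((MonoidHom.snd G Γ).comp (cl z S).subtype).comp e.symm.toMonoidHom, fun a ha => ?_⟩
  have : e.symm (gen a) = ⟨z a, gen_mem_cl z ha⟩ := by
    rw [MulEquiv.symm_apply_eq]; rfl
  simp [this, z]

theorem Bounds.card_le {R : List (List ℕ)} {S : List ℕ} {N : ℕ} (h : Bounds R S N) {G : Type*} [Group G]
    {gen : ℕ → G} (hG : ∀ r ∈ R, ev gen r = 1) (hS : cl gen S = ⊤) : Finite G ∧ Nat.card G ≤ N := by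
  obtain ⟨h1, h2⟩ := h.univ gen hG
  rw [hS] at h1 h2
  exact ⟨Finite.of_equiv _ Subgroup.topEquiv.toEquiv, by rwa [Subgroup.card_top] at h2⟩

end Cfsg.Agent.CG
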